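/-
Minimal intersections of conjugates of a point stabiliser of a binary action.
-/
import Cfsg.Agent.Lib.Suzuki.BinaryCosets.General

set_option autoImplicit false

namespace CfsgLib.PSL2Binary

open CfsgLib.BinaryCosets

variable {G : Type*} [Group G]

theorem mem_normalizer_iff_cj [Finite G] {g : G} {P : Subgroup G} :
    g ∈ Subgroup.normalizer (P : Set G) ↔ cj g P = P := by
  constructor
  · intro h
    ext x
    rw [mem_cj]
    have := (Subgroup.mem_normalizer_iff.mp h (g⁻¹ * x * g)).symm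
    rwa [show g * (g⁻¹ * x * g) * g⁻¹ = x by group, Iff.comm] at this
  · intro h
    rw [Subgroup.mem_normalizer_iff]
    intro x
    conv_rhs => rw [← h]
    rw [mem_cj, show g⁻¹ * (g * x * g⁻¹) * g = x by group]

/-- A non-trivial intersection of conjugates not cut properly by any other. -/
structure Min (H P : Subgroup G) : Prop where
  int : IsInt H P
  ne_bot : P ≠ ⊥
  le : ∀ Q, IsInt H Q → P ⊓ Q ≠ ⊥ → P ≤ Q

theorem exists_min [Finite G] {H Q : Subgroup G} (hQ : IsInt H Q) (h1 : Q ≠ ⊥) :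
    ∃ P, Min H P ∧ P ≤ Q := by
  classical
  let S : Set (Subgroup G) := {P | IsInt H P ∧ P ≠ ⊥ ∧ P ≤ Q}
  obtain ⟨P, ⟨hP, hP1, hPQ⟩, hmin⟩ :=
    S.toFinite.exists_minimal ⟨Q, hQ, h1, le_rfl⟩
  refine ⟨P, ⟨hP, hP1, fun R hR hne => ?_⟩, hPQ⟩
  have := hmin (y := P ⊓ R) ⟨hP.inf hR, hne, inf_le_left.trans hPQ⟩ inf_le_left
  exact this.trans inf_le_right

theorem exists_least [Finite G] {H Q : Subgroup G} (hQ : IsInt H Q) {a : G} (ha : a ∈ Q) :
    ∃ K, IsInt H K ∧ a ∈ K ∧ ∀ R, IsInt H R → a ∈ R → K ≤ R := by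
  classical
  let S : Set (Subgroup G) := {K | IsInt H K ∧ a ∈ K}
  obtain ⟨K, ⟨hK, haK⟩, hmin⟩ := S.toFinite.exists_minimal ⟨Q, hQ, ha⟩
  refine ⟨K, hK, haK, fun R hR haR => ?_⟩
  exact (hmin (y := K ⊓ R) ⟨hK.inf hR, haK, haR⟩ inf_le_left).trans inf_le_right

theorem least_norm [Finite G] {H K : Subgroup G} {a g : G} (hK : IsInt H K) (haK : a ∈ K)
    (hmin : ∀ R, IsInt H R → a ∈ R → K ≤ R) (hg : Commute g a) :
    g ∈ Subgroup.normalizer (K : Set G) := by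
  rw [mem_normalizer_iff_cj]
  refine (Subgroup.eq_of_le_of_card_ge (hmin _ (hK.conj g) ?_) ?_).symm
  · rw [mem_cj, mul_assoc, ← hg.eq, inv_mul_cancel_left]
    exact haK
  · rw [card_cj]

variable [Finite G] {H P : Subgroup G}

theorem Min.cj_eq (hP : Min H P) {g : G} (h : P ⊓ cj g P ≠ ⊥) : cj g P = P :=
  (Subgroup.eq_of_le_of_card_ge (hP.le _ (hP.int.conj g) h) (by rw [card_cj])).symm

theorem Min.conj (hP : Min H P) (c : G) : Min H (cj c P) := by
  refine ⟨hP.int.conj c, fun e => hP.ne_bot (cj_eq_bot.mp e), fun Q hQ hne => ?_⟩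
  have h := hP.le (cj c⁻¹ Q) (hQ.conj c⁻¹) fun e => hne (eq_bot_iff.mpr fun z hz => by
    have hz' : c⁻¹ * z * c ∈ P ⊓ cj c⁻¹ Q := ⟨mem_cj.mp hz.1, mem_cj.mpr (by
      simpa [mul_assoc] using hz.2)⟩
    rw [e, Subgroup.mem_bot] at hz'
    rw [Subgroup.mem_bot]
    simpa [mul_assoc] using congrArg (fun w => c * w * c⁻¹) hz')
  intro z hz
  simpa [mul_assoc] using mem_cj.mp (h (mem_cj.mp hz))

theorem Min.norm (hP : Min H P) {x g : G} (hx : x ∈ P) (hx1 : x ≠ 1) (hg : g * x * g⁻¹ ∈ P) :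
    g ∈ Subgroup.normalizer (P : Set G) := by
  rw [mem_normalizer_iff_cj]
  refine hP.cj_eq fun e => hx1 ?_
  have : g * x * g⁻¹ ∈ P ⊓ cj g P := ⟨hg, mem_cj.mpr (by rwa [show g⁻¹ * (g * x * g⁻¹) * g = x by group])⟩
  rw [e, Subgroup.mem_bot, mul_inv_eq_one, mul_eq_left] at this
  exact this

theorem Min.norm_of_commute (hP : Min H P) {x g : G} (hx : x ∈ P) (hx1 : x ≠ 1) (hg : Commute g x) :
    g ∈ Subgroup.normalizer (P : Set G) :=
  hP.norm hx hx1 (by rw [hg.eq, mul_inv_cancel_right]; exact hx)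

omit [Finite G] in
theorem Min.norm_ne_top [IsSimpleGroup G] (hP : Min H P) (hH : H ≠ ⊤) :
    Subgroup.normalizer (P : Set G) ≠ ⊤ := by
  intro e
  rcases (Subgroup.normalizer_eq_top_iff.mp e).eq_bot_or_eq_top with h | h
  · exact hP.ne_bot h
  · exact hP.int.ne_top hH h

omit [Finite G] in
/-- No factorisation of a minimal element through two intersections avoiding it. -/
theorem Min.witness' (hB : Binary H) (hP : Min H P) {Q1 Q2 : Subgroup G} (h1 : IsInt H Q1)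
    (h2 : IsInt H Q2) {x b : G} (hx : x ∈ P) (hx1 : x ∉ Q1) (hx2 : x ∉ Q2) (hb : b ∈ Q1)
    (hc : b⁻¹ * x ∈ Q2) : False := by
  obtain ⟨g, hg, hgx⟩ := witness hB hP.int h1 h2 hx hb hc (mul_inv_cancel_left b x).symm
  by_cases hg1 : g = 1
  · subst hg1
    rw [inv_one, one_mul] at hgx
    exact hx2 hgx.2
  · exact hx1 (hP.le _ h1 (fun e => hg1 (Subgroup.mem_bot.mp (e ▸ hg))) hx)

/-- A factorisation of a minimal element through two conjugates lies inside. -/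
theorem Min.tri (hB : Binary H) (hP : Min H P) {x b g k : G} (hx : x ∈ P) (hx1 : x ≠ 1)
    (hb : b ∈ cj g P) (hc : b⁻¹ * x ∈ cj k P) : b ∈ P := by
  by_cases h1 : x ∈ cj g P
  · rwa [hP.cj_eq (g := g) fun e => hx1 (Subgroup.mem_bot.mp (e ▸ ⟨hx, h1⟩))] at hb
  by_cases h2 : x ∈ cj k P
  · rw [hP.cj_eq (g := k) fun e => hx1 (Subgroup.mem_bot.mp (e ▸ ⟨hx, h2⟩))] at hc
    simpa using P.mul_mem hx (P.inv_mem hc)
  exact (hP.witness' hB (hP.int.conj g) (hP.int.conj k) hx h1 h2 hb hc).elim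

/-- Conjugates of a minimal element multiply freely. -/
theorem Min.card_sq_le (hP : Min H P) (hN : Subgroup.normalizer (P : Set G) ≠ ⊤) :
    Nat.card P * Nat.card P ≤ Nat.card G := by
  obtain ⟨g, hg⟩ : ∃ g, g ∉ Subgroup.normalizer (P : Set G) := by
    by_contra h
    push Not at h
    exact hN (eq_top_iff.mpr fun x _ => h x)
  have htriv : P ⊓ cj g P = ⊥ := by
    by_contra e
    exact hg (mem_normalizer_iff_cj.mpr (hP.cj_eq e))
  rw [← Nat.card_prod]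
  refine Nat.card_le_card_of_injective (fun z : P × P => (z.1 : G) * (g * z.2 * g⁻¹)) ?_
  rintro ⟨a, b⟩ ⟨a', b'⟩ e
  simp only at e
  have h : (a' : G)⁻¹ * a ∈ P ⊓ cj g P := by
    refine ⟨P.mul_mem (P.inv_mem a'.2) a.2, ?_⟩
    refine mem_cj.mpr ?_
    have : (a' : G)⁻¹ * a = g * ((b' : G) * (b : G)⁻¹) * g⁻¹ := by
      calc (a' : G)⁻¹ * a = (a' : G)⁻¹ * ((a : G) * (g * b * g⁻¹)) * (g * (b : G)⁻¹ * g⁻¹) := by group
        _ = _ := by rw [e]; group
    rw [this, show g⁻¹ * (g * ((b' : G) * (b : G)⁻¹) * g⁻¹) * g = (b' : G) * (b : G)⁻¹ by group]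
    exact P.mul_mem b'.2 (P.inv_mem b.2)
  rw [htriv, Subgroup.mem_bot, inv_mul_eq_one] at h
  rw [h] at e
  simp only [mul_right_inj, mul_left_inj] at e
  exact Prod.ext (Subtype.ext h.symm) (Subtype.ext e)

end CfsgLib.PSL2Binary
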