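/-
Facts about `PSL₂(q)` for the classification of its binary actions.
-/
import Cfsg.Agent.Lib.PSL2Binary.Min
import Cfsg.Agent.Lib.DicksonFull.Solvabilizer
import Cfsg.Agent.Lib.DicksonFull.Subgroups
import Cfsg.Agent.Lib.PSL2Max.Poly
import Cfsg.Agent.Lib.PSL2Max.PglTorus
import Cfsg.Agent.Lib.PSL2.ClassProduct
import Cfsg.Agent.Lib.PSL2.BorelUnique

set_option autoImplicit false

namespace CfsgLib.PSL2Binary

open Matrix
open scoped Pointwise
open CfsgLib.BinaryCosets
open CfsgLib.PSL2 (mk)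
open CfsgLib.Dickson (up lo)
open CfsgLib.DicksonFull

section Any

variable {F : Type*} [Field F]

local notation "SL" => Matrix.SpecialLinearGroup (Fin 2) F

theorem trace_inv (g : SL) : (g⁻¹).1.trace = g.1.trace := by
  obtain ⟨i00, -, -, i11⟩ := Dickson.inv_entries g
  rw [Matrix.trace_fin_two, Matrix.trace_fin_two, i00, i11, add_comm]

theorem trace_mul_inv (g h : SL) :
    (g * h⁻¹).1.trace = g.1.trace * h.1.trace - (g * h).1.trace := by
  rw [Matrix.SpecialLinearGroup.coe_mul, inv_coe, Matrix.SpecialLinearGroup.coe_mul, Matrix.mul_sub,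
    Matrix.mul_smul, mul_one, Matrix.trace_sub, Matrix.trace_smul, smul_eq_mul, mul_comm]

theorem trace_comm' (g h : SL) : (g * h).1.trace = (h * g).1.trace := by
  rw [Matrix.SpecialLinearGroup.coe_mul, Matrix.trace_mul_comm, Matrix.SpecialLinearGroup.coe_mul]

/-- Fricke's formula. -/
theorem trace_commutator (g h : SL) :
    (g * h * g⁻¹ * h⁻¹).1.trace = g.1.trace ^ 2 + h.1.trace ^ 2 + (g * h).1.trace ^ 2 -
      g.1.trace * h.1.trace * (g * h).1.trace - 2 := by
  have hh : (h * h).1.trace = h.1.trace ^ 2 - 2 := by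
    rw [Matrix.SpecialLinearGroup.coe_mul, SL2Orders.sq_eq, Matrix.trace_sub, Matrix.trace_smul,
      Matrix.trace_one, Fintype.card_fin, smul_eq_mul]
    push_cast; ring
  have e1 : (g * h * g⁻¹).1.trace = h.1.trace := Dickson.trace_conj g h
  have e2 : (g * h * g⁻¹ * h).1.trace = (h * (g * h) * g⁻¹).1.trace := by
    rw [trace_comm']; simp only [mul_assoc]
  have e3 : (h * (g * h) * g).1.trace = (g * h).1.trace ^ 2 - 2 := by
    rw [trace_comm', show g * (h * (g * h)) = (g * h) * (g * h) by simp only [mul_assoc],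
      Matrix.SpecialLinearGroup.coe_mul (g * h), SL2Orders.sq_eq, Matrix.trace_sub, Matrix.trace_smul,
      Matrix.trace_one, Fintype.card_fin, smul_eq_mul]
    push_cast; ring
  have e4 : (h * (g * h)).1.trace = (g * h).1.trace * h.1.trace - g.1.trace := by
    have := trace_mul_inv (g * h) h⁻¹
    rw [inv_inv, mul_inv_cancel_right, trace_inv] at this
    rw [trace_comm', this]
  rw [trace_mul_inv, e1, e2, trace_mul_inv, e3, e4]
  ring

end Any

variable {F : Type*} [Field F] [Fintype F] (p : ℕ) [Fact p.Prime] [CharP F p]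

local notation "SL" => Matrix.SpecialLinearGroup (Fin 2) F
local notation "PSL" => Matrix.ProjectiveSpecialLinearGroup (Fin 2) F
local notation "q" => Fintype.card F

theorem SS.trace {A : SL} (hx : SS p (mk A)) : A.1.trace ^ 2 ≠ 4 := (ss_iff p).mp hx

omit [Fintype F] in
theorem sq_eq_one_of_trace {A : SL} (h : A.1.trace = 0) : mk A ^ 2 = 1 := by
  have e : A * A = -1 := Subtype.ext (by
    rw [Matrix.SpecialLinearGroup.coe_mul, SL2Orders.sq_eq, h, zero_smul, zero_sub,
      Matrix.SpecialLinearGroup.coe_neg, Matrix.SpecialLinearGroup.coe_one])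
  rw [pow_two, ← map_mul, e, mk_neg, map_one]

omit [Fintype F] in
theorem trace_eq_zero_of_sq {A : SL} (h1 : mk A ≠ 1) (h : mk A ^ 2 = 1) :
    A.1.trace = 0 := by
  by_contra ht
  rw [pow_two, ← map_mul] at h
  rcases mk_eq_one h with e | e
  · refine not_scalar_of_ne_one h1 (2 / A.1.trace) ?_
    have e' := congrArg (fun z : SL => A.1.trace⁻¹ • z.1) e
    simp only [Matrix.SpecialLinearGroup.coe_mul, SL2Orders.sq_eq, smul_sub, smul_smul,
      inv_mul_cancel₀ ht, one_smul, Matrix.SpecialLinearGroup.coe_one, sub_eq_iff_eq_add] at e'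
    refine e'.trans ?_
    rw [← add_smul]
    congr 1; ring
  · refine not_scalar_of_ne_one h1 0 ?_
    have e' := congrArg (fun z : SL => A.1.trace⁻¹ • z.1) e
    simp only [Matrix.SpecialLinearGroup.coe_mul, SL2Orders.sq_eq, smul_sub, smul_smul,
      inv_mul_cancel₀ ht, one_smul, Matrix.SpecialLinearGroup.coe_neg,
      Matrix.SpecialLinearGroup.coe_one, sub_eq_iff_eq_add, smul_neg, neg_add_cancel] at e'
    rw [e', zero_smul]

theorem conj_of_trace_sq {A B : SL} (hA : A.1.trace ^ 2 ≠ 4) (e : B.1.trace ^ 2 = A.1.trace ^ 2) :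
    ∃ g : PSL, g * mk A * g⁻¹ = mk B := by
  have key : ∀ B : SL, B.1.trace = A.1.trace → ∃ g : PSL, g * mk A * g⁻¹ = mk B := fun B e => by
    obtain ⟨c, hc⟩ := isConj_iff.mp (PSL2Product.isConj_of_trace hA e)
    exact ⟨mk c, by rw [← map_inv, ← map_mul, ← map_mul, hc]⟩
  rcases sq_eq_sq_iff_eq_or_eq_neg.mp e with h | h
  · exact key B h
  · rw [← mk_neg B]
    exact key (-B) (by rw [Dickson.neg_one_trace, h, neg_neg])

omit [Fintype F] in
/-- Conjugate elements, one of them in a subgroup. -/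
theorem mem_cj_of_conj {x y g : PSL} {P : Subgroup PSL} (hx : x ∈ P) (e : g * x * g⁻¹ = y) :
    y ∈ cj g P := by
  rw [mem_cj, ← e, show g⁻¹ * (g * x * g⁻¹) * g = x by group]
  exact hx

/-- A commutator of semisimple trace separates. -/
theorem separated {A B : SL} (h : (A * B * A⁻¹ * B⁻¹).1.trace ^ 2 ≠ 4) :
    ¬ Commute (mk A) (mk B) ∧
      ∀ u : PSL, orderOf u = p → mk A ∈ bor u → mk B ∉ bor u := by
  have hs : SS p (mk (A * B * A⁻¹ * B⁻¹)) := (ss_iff p).mpr h
  have e : mk (A * B * A⁻¹ * B⁻¹) = mk A * mk B * (mk A)⁻¹ * (mk B)⁻¹ := by simp only [map_mul, map_inv]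
  constructor
  · intro hc
    apply hs.1
    rw [e, hc.eq, mul_inv_cancel_right, mul_inv_cancel]
  · intro u hu hA hB
    exact not_commute_of_SS (psl p) hu hs
      (e ▸ (psl p).borel_comm u _ _ hu ((mem_bor (psl p) hu).mp hA) ((mem_bor (psl p) hu).mp hB))

omit [Fintype F] in
theorem sq_ne_of_trace {A : SL} (h1 : mk A ≠ 1) (h : A.1.trace ≠ 0) :
    mk A ^ 2 ≠ 1 := fun e => h (trace_eq_zero_of_sq h1 e)

theorem mem_T_of_norm {x g : PSL} (hx : SS p x) (hg : g ∈ Subgroup.normalizer ((psl p).T x : Set PSL))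
    (hg2 : g ^ 2 ≠ 1) : g ∈ (psl p).T x := by
  by_contra h
  exact hg2 (inverter_sq (psl p) hx ((mem_norm_iff hx).mp hg) h)

theorem commute_of_norm {x g : PSL} (hx : SS p x) (hg : g ∈ Subgroup.normalizer ((psl p).T x : Set PSL))
    (hg2 : g ^ 2 ≠ 1) : Commute g x :=
  tor_comm hx (mem_T_of_norm p hx hg hg2) ((psl p).mem_T x hx)

theorem mem_T_of_commute {x g : PSL} (hx : SS p x) (hx2 : x ^ 2 ≠ 1) (hg : Commute g x) :
    g ∈ (psl p).T x := by
  have hgx : g * x * g⁻¹ = x := by rw [hg.eq, mul_inv_cancel_right]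
  by_contra h
  have := ((psl p).T_norm x g hx (hgx.symm ▸ (psl p).mem_T x hx) h).1 x ((psl p).mem_T x hx)
  rw [hgx] at this
  exact hx2 (by rw [pow_two]; exact mul_eq_one_iff_eq_inv.mpr this)

theorem T_le_norm {H P : Subgroup PSL} (hP : Min H P) {x : PSL} (hx : SS p x) (hxP : x ∈ P) :
    (psl p).T x ≤ Subgroup.normalizer (P : Set PSL) := fun _ hy =>
  hP.norm_of_commute hxP hx.1 (tor_comm hx hy ((psl p).mem_T x hx))

/-- Proper overgroups of a Sylow `p`-subgroup lie in its Borel subgroup. -/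
theorem le_bor_of_cent_le {L : Subgroup PSL} (hL : L ≠ ⊤) {u : PSL} (hu : orderOf u = p)
    (h : cent u ≤ L) : L ≤ bor u := by
  obtain ⟨S, hS⟩ := exists_sylow_cent p hu
  have := (PSL2.sylow_overgroup S).2 L (hS ▸ h) hL
  rwa [hS] at this

theorem norm_le_bor (hH4 : 4 ≤ q) {H P : Subgroup PSL} (hH : H ≠ ⊤) (hP : Min H P) {u : PSL}
    (hu : orderOf u = p) (huP : u ∈ P) : Subgroup.normalizer (P : Set PSL) ≤ bor u := by
  have := PSL2Max.isSimple (F := F) hH4
  have hu1 : u ≠ 1 := fun e => (Fact.out : p.Prime).ne_one (by rw [← hu, e, orderOf_one])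
  exact le_bor_of_cent_le p (hP.norm_ne_top hH) hu fun g hg =>
    hP.norm_of_commute huP hu1 (mem_cent.mp hg)

/-- Elements of order `p` are conjugate to transvections. -/
theorem exists_conj_up {u : PSL} (hu : orderOf u = p) :
    ∃ (g : PSL) (a : F), a ≠ 0 ∧ g⁻¹ * u * g = mk (up a) := by
  obtain ⟨S, hS⟩ := exists_sylow_cent p hu
  obtain ⟨g, hg⟩ := MulAction.exists_smul_eq PSL S (PSL2.uSylow (F := F) p)
  have hu' : MulAut.conj g • u ∈ ((MulAut.conj g • (S : Subgroup PSL) : Subgroup PSL)) :=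
    Subgroup.smul_mem_pointwise_smul _ _ _ (hS ▸ self_mem_cent u)
  rw [show (MulAut.conj g • (S : Subgroup PSL) : Subgroup PSL) = ((g • S : Sylow p PSL) : Subgroup PSL)
    from rfl, hg] at hu'
  obtain ⟨t, ht⟩ := hu'
  refine ⟨g⁻¹, t.toAdd, fun e => ?_, ?_⟩
  · have h1 : PSL2.uHom t = (1 : PSL) := by
      rw [show t = 1 from Multiplicative.toAdd.injective e, map_one]
    rw [h1] at ht
    have : u = 1 := by
      simpa using ht.symm
    exact (Fact.out : p.Prime).ne_one (by rw [← hu, this, orderOf_one])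
  · rw [inv_inv]
    exact ht.symm

theorem exists_generator {x : PSL} (hx : SS p x) :
    ∃ t ∈ (psl p).T x, orderOf t = Nat.card ((psl p).T x) := by
  have := (psl (F := F) p).T_cyclic x hx
  obtain ⟨⟨t, ht⟩, htg⟩ := IsCyclic.exists_generator (α := (psl p).T x)
  exact ⟨t, ht, by rw [← orderOf_eq_card_of_forall_mem_zpowers htg, Subgroup.orderOf_mk]⟩

theorem card_T (h4 : 4 ≤ q) {x : PSL} (hx : SS p x) :
    Nat.gcd 2 (q - 1) * Nat.card ((psl p).T x) = q + 1 ∨
      Nat.gcd 2 (q - 1) * Nat.card ((psl p).T x) = q - 1 := by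
  obtain ⟨n, -, hn, hT, -⟩ := PSL2Max.torus_data p h4 hx
  rw [hT]; exact hn

/-- The exceptional overgroups of a torus. -/
def Exc (L : Subgroup PSL) : Prop :=
  Nonempty (L ≃* alternatingGroup (Fin 4)) ∨ Nonempty (L ≃* Equiv.Perm (Fin 4)) ∨
    Nonempty (L ≃* alternatingGroup (Fin 5)) ∨ (Fintype.card F = 9 ∧ Nat.card L ≤ 24)

/-- Proper overgroups of a torus. -/
theorem over_torus (h4 : 4 ≤ q) {L : Subgroup PSL} (hL : L ≠ ⊤) {x : PSL} (hx : SS p x)
    (hT : (psl p).T x ≤ L) (hn : 3 ≤ Nat.card ((psl p).T x)) :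
    L ≤ Subgroup.normalizer ((psl p).T x : Set PSL) ∨ (∃ u, orderOf u = p ∧ L ≤ bor u) ∨ Exc L := by
  obtain ⟨t, htT, htn⟩ := exists_generator p hx
  have ht1 : t ≠ 1 := fun e => by rw [e, orderOf_one] at htn; omega
  obtain ⟨hts, hTt⟩ := (psl (F := F) p).T_eq x t hx htT ht1
  have htL := hT htT
  rcases proper_cases p hL with ⟨k, -, ⟨hc, -⟩ | ⟨⟨e⟩⟩⟩ | h | h | h | ⟨u, hu, h⟩ |
    ⟨Q, m, K, _, _, -, h3, hm, hQm, hle, hmax, -⟩
  · left
    intro g hg
    refine mem_norm hx ?_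
    have hcomm : (⟨g, hg⟩ : L) * ⟨x, hT ((psl p).mem_T x hx)⟩ = ⟨x, hT ((psl p).mem_T x hx)⟩ * ⟨g, hg⟩ :=
      (IsCyclic.commGroup (α := L)).mul_comm _ _
    have hgx : g * x = x * g := congrArg Subtype.val hcomm
    rw [hgx, mul_inv_cancel_right]
    exact (psl p).mem_T x hx
  · left
    intro g hg
    rw [← hTt]
    refine mem_norm hts ?_
    rw [hTt]
    suffices h : g * t * g⁻¹ = t ∨ g * t * g⁻¹ = t⁻¹ by
      rcases h with h | h <;> rw [h]
      · exact htT
      · exact inv_mem htT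
    have hval : ∀ z : L, (e.symm (e z) : PSL) = z := fun z => by rw [e.symm_apply_apply]
    rcases ht : e ⟨t, htL⟩ with i | i
    · rcases hge : e ⟨g, hg⟩ with j | j
      · left
        have := congrArg (fun z => ((e.symm z : L) : PSL))
          (show e ⟨g, hg⟩ * e ⟨t, htL⟩ * (e ⟨g, hg⟩)⁻¹ = e ⟨t, htL⟩ by
            rw [ht, hge]; simp)
        simpa using this
      · right
        have := congrArg (fun z => ((e.symm z : L) : PSL))
          (show e ⟨g, hg⟩ * e ⟨t, htL⟩ * (e ⟨g, hg⟩)⁻¹ = (e ⟨t, htL⟩)⁻¹ by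
            rw [ht, hge]; simp)
        simpa using this
    · exfalso
      have h2 := congrArg orderOf ht
      rw [MulEquiv.orderOf_eq, Subgroup.orderOf_mk, DihedralGroup.orderOf_sr, htn] at h2
      omega
  · exact Or.inr (Or.inr (Or.inl h))
  · exact Or.inr (Or.inr (Or.inr (Or.inl h)))
  · exact Or.inr (Or.inr (Or.inr (Or.inr (Or.inl h))))
  · exact Or.inr (Or.inl ⟨u, hu, h⟩)
  · refine Or.inr (Or.inr (Or.inr (Or.inr (Or.inr ?_))))
    have hn' := hmax x (hT ((psl p).mem_T x hx)) hx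
    rw [show tor (psl p) L x = (psl p).T x from inf_eq_right.mpr hT] at hn'
    have hc := card_T p h4 hx
    have hQ2 : Q * Q ≤ q := by
      rw [← hQm, ← pow_two]; exact Nat.pow_le_pow_right (by omega) hm
    have hQ2' : 3 * Q ≤ Q * Q := Nat.mul_le_mul_right Q h3
    have hQ : Q = 3 ∧ q ≤ 9 := by
      rcases gcd_cases (F := F) p with ⟨hg, -⟩ | ⟨hg, -⟩ <;> rw [hg] at hc
      · omega
      · rcases (show Q = 3 ∨ 4 ≤ Q by omega) with rfl | h4Q
        · omega
        · have := Nat.mul_le_mul_right Q h4Q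
          omega
    obtain ⟨rfl, hq9⟩ := hQ
    exact ⟨by omega, by simpa using hle⟩

end CfsgLib.PSL2Binary
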