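/-
A semisimple element of a minimal intersection forces an exceptional normaliser.
-/
import Cfsg.Agent.Lib.PSL2Binary.Basic

set_option autoImplicit false

namespace CfsgLib.PSL2Binary

open Matrix
open CfsgLib.BinaryCosets
open CfsgLib.PSL2 (mk)
open CfsgLib.DicksonFull

variable {F : Type*} [Field F] [Fintype F] (p : ℕ) [Fact p.Prime] [CharP F p]

local notation "SL" => Matrix.SpecialLinearGroup (Fin 2) F
local notation "PSL" => Matrix.ProjectiveSpecialLinearGroup (Fin 2) F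
local notation "q" => Fintype.card F

omit [Fintype F] in
/-- A sign making the commutator trace semisimple. -/
theorem exists_sign {t : F} (ht : t ≠ 0) (h1 : (2 : F) = 0 → t ≠ 1) (h4 : t ^ 2 ≠ 4) :
    ∃ ε : F, ε * ε = 1 ∧ (3 * t ^ 2 - ε * t ^ 3 - 2) ^ 2 ≠ 4 := by
  have key : ∀ ε : F, ε * ε = 1 → ε * t ≠ -1 → ε * t ≠ 3 → (3 * t ^ 2 - ε * t ^ 3 - 2) ^ 2 ≠ 4 := by
    intro ε he n1 n3 hw
    have : t ^ 2 * (ε * t - 3) * ((ε * t + 1) * ((ε * t - 2) * (ε * t - 2))) = 0 := by
      linear_combination hw + t ^ 4 * (ε * t - 3) ^ 2 * he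
    simp only [mul_eq_zero, sub_eq_zero, pow_eq_zero_iff (two_ne_zero' ℕ)] at this
    rcases this with (h | h) | h | h | h
    · exact ht h
    · exact n3 h
    · exact n1 (eq_neg_of_add_eq_zero_left h)
    all_goals exact h4 (by linear_combination (ε * t + 2) * h - (t ^ 2) * he)
  by_cases hc : t ≠ -1 ∧ t ≠ 3
  · exact ⟨1, one_mul 1, key 1 (one_mul 1) (by rw [one_mul]; exact hc.1) (by rw [one_mul]; exact hc.2)⟩
  rw [not_and_or, not_not, not_not] at hc
  have h2 : (2 : F) ≠ 0 := by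
    intro h
    rcases hc with e | e
    · exact h1 h (by rw [e]; linear_combination (-1 : F) * h)
    · exact h1 h (by rw [e]; linear_combination h)
  refine ⟨-1, by ring, key (-1) (by ring) ?_ ?_⟩
  · intro e
    rcases hc with h | h
    · exact h2 (by linear_combination h + e)
    · exact h2 (by linear_combination -h - e)
  · intro e
    rcases hc with h | h
    · exact h2 (by linear_combination -e - h)
    · have h6 : (2 : F) * t = 0 := by linear_combination h - e
      exact ht ((mul_eq_zero.mp h6).resolve_left h2)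

/-- A non-commuting conjugate inside a minimal intersection. -/
theorem exists_partner {H P : Subgroup PSL} (hB : Binary H) (hP : Min H P) {A : SL}
    (hx : SS p (mk A)) (hxP : mk A ∈ P) (ht : A.1.trace ≠ 0) (h1 : (2 : F) = 0 → A.1.trace ≠ 1) :
    ∃ b ∈ P, (∃ g : PSL, g * mk A * g⁻¹ = b) ∧ ¬ Commute (mk A) b ∧
      ∀ u : PSL, orderOf u = p → mk A ∈ bor u → b ∉ bor u := by
  have hA : A.1.trace ^ 2 ≠ 4 := SS.trace p hx
  obtain ⟨ε, he, hw⟩ := exists_sign ht h1 hA
  obtain ⟨X, Y, hX, hY, hXY⟩ := PSL2Product.exists_mul (α := A.1.trace) (β := ε * A.1.trace) (g := A)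
    (SL2Centralizer.not_scalar_of_trace hA) (Or.inl hA)
  obtain ⟨g, hg⟩ := conj_of_trace_sq (A := A) (B := X) hA (by rw [hX])
  obtain ⟨k, hk⟩ := conj_of_trace_sq (A := A) (B := Y) hA (by
    rw [hY, mul_pow, pow_two ε, he, one_mul])
  have hb : mk X ∈ P := hP.tri hB hxP hx.1 (mem_cj_of_conj hxP hg) (by
    rw [show (mk X)⁻¹ * mk A = mk Y by rw [← map_inv, ← map_mul, ← hXY, inv_mul_cancel_left]]
    exact mem_cj_of_conj hxP hk)
  have htr : (A * X).1.trace = A.1.trace * A.1.trace - ε * A.1.trace := by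
    have h := trace_mul_inv A X
    have h' : (A * X⁻¹).1.trace = (X⁻¹ * (X * Y)).1.trace := by rw [trace_comm', hXY]
    rw [inv_mul_cancel_left, hY] at h'
    rw [hX, h'] at h
    linear_combination h
  have hW : (A * X * A⁻¹ * X⁻¹).1.trace = 3 * A.1.trace ^ 2 - ε * A.1.trace ^ 3 - 2 := by
    rw [trace_commutator, htr, hX]
    linear_combination A.1.trace ^ 2 * he
  obtain ⟨s1, s2⟩ := separated p (A := A) (B := X) (by rw [hW]; exact hw)
  exact ⟨mk X, hb, ⟨g, hg⟩, s1, s2⟩

/-- The normaliser of such a minimal intersection is exceptional. -/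
theorem exc_of_min (h4 : 4 ≤ q) {H P : Subgroup PSL} (hH : H ≠ ⊤) (hB : Binary H) (hP : Min H P) {A : SL}
    (hx : SS p (mk A)) (hxP : mk A ∈ P) (ht : A.1.trace ≠ 0) (h1 : (2 : F) = 0 → A.1.trace ≠ 1) :
    Exc (Subgroup.normalizer (P : Set PSL)) ∧ 3 ≤ Nat.card ((psl p).T (mk A)) ∧
      (psl p).T (mk A) ≤ Subgroup.normalizer (P : Set PSL) ∧
      ∃ b ∈ P, (∃ g : PSL, g * mk A * g⁻¹ = b) ∧ ¬ Commute (mk A) b := by
  have := PSL2Max.isSimple (F := F) h4
  obtain ⟨b, hb, ⟨g, hg⟩, hnc, hbor⟩ := exists_partner p hB hP hx hxP ht h1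
  have hx2 := sq_ne_of_trace hx.1 ht
  have hn : 3 ≤ Nat.card ((psl p).T (mk A)) := by
    by_contra hlt
    have h0 : 0 < Nat.card ((psl p).T (mk A)) := Nat.card_pos
    refine hx2 (orderOf_dvd_iff_pow_eq_one.mp ((Subgroup.orderOf_dvd_natCard _
      ((psl p).mem_T _ hx)).trans ?_))
    rcases (show Nat.card ((psl p).T (mk A)) = 1 ∨ Nat.card ((psl p).T (mk A)) = 2 by omega) with e | e <;>
      rw [e]
    exact one_dvd 2
  have hTN := T_le_norm p hP hx hxP
  have hle := Subgroup.le_normalizer (H := P)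
  refine ⟨?_, hn, hTN, b, hb, ⟨g, hg⟩, hnc⟩
  rcases over_torus p h4 (hP.norm_ne_top hH) hx hTN hn with h | ⟨u, hu, h⟩ | h
  · refine absurd (commute_of_norm p hx (h (hle hb)) ?_).symm hnc
    rw [← hg, conj_pow]
    intro e
    rw [mul_inv_eq_one, mul_eq_left] at e
    exact hx2 e
  · exact absurd (h (hle hb)) (hbor u hu (h (hle hxP)))
  · exact h

end CfsgLib.PSL2Binary
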