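/-
Characteristic two: binary actions have Sylow or order three stabilisers.
-/
import Cfsg.Agent.Lib.PSL2Binary.Partner
import Mathlib.Algebra.CharP.Two

set_option autoImplicit false

namespace CfsgLib.PSL2Binary

open Matrix
open CfsgLib.BinaryCosets
open CfsgLib.PSL2 (mk)
open CfsgLib.Dickson (up lo)
open CfsgLib.DicksonFull

variable {F : Type*} [Field F] [CharP F 2]

local notation "SL" => Matrix.SpecialLinearGroup (Fin 2) F
local notation "PSL" => Matrix.ProjectiveSpecialLinearGroup (Fin 2) F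
local notation "q" => Fintype.card F

theorem neg_sl (A : SL) : -A = A := by
  apply Subtype.ext
  rw [Matrix.SpecialLinearGroup.coe_neg]
  ext i j
  simp [CharTwo.neg_eq]

theorem mk_inj {A B : SL} (h : mk A = mk B) : A = B := by
  rcases eq_or_neg h with e | e
  · exact e.symm
  · rw [e, neg_sl]

theorem cube_eq (A : SL) : (A * A * A).1 = (A.1.trace ^ 2 - 1) • A.1 - A.1.trace • (1 : Matrix (Fin 2) (Fin 2) F) := by
  rw [Matrix.SpecialLinearGroup.coe_mul, Matrix.SpecialLinearGroup.coe_mul, SL2Orders.sq_eq,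
    Matrix.sub_mul, Matrix.smul_mul, one_mul, SL2Orders.sq_eq, smul_sub, smul_smul, sub_smul, one_smul,
    ← pow_two]
  abel

theorem trace_one_of_cube {A : SL} (h1 : mk A ≠ 1) (h : mk A ^ 3 = 1) : A.1.trace = 1 := by
  by_contra ht
  have hA : A * A * A = 1 := mk_inj (by rw [map_mul, map_mul, map_one, ← h, pow_succ, pow_two])
  have e := congrArg Subtype.val hA
  rw [cube_eq, Matrix.SpecialLinearGroup.coe_one, sub_eq_iff_eq_add] at e
  have hne : A.1.trace ^ 2 - 1 ≠ 0 := fun e0 => ht (sub_eq_zero.mp (mul_self_eq_zero.mp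
    (show (A.1.trace - 1) * (A.1.trace - 1) = 0 by
      linear_combination e0 + (1 - A.1.trace) * CharTwo.two_eq_zero (R := F))))
  refine not_scalar_of_ne_one h1 ((A.1.trace ^ 2 - 1)⁻¹ * (1 + A.1.trace)) ?_
  have e' := congrArg (fun M => (A.1.trace ^ 2 - 1)⁻¹ • M) e
  simp only [smul_smul, inv_mul_cancel₀ hne, one_smul, smul_add] at e'
  refine e'.trans ?_
  rw [mul_add, mul_one, add_smul]

theorem cube_of_trace {A : SL} (h : A.1.trace = 1) : mk A ^ 3 = 1 := by
  have e : A * A * A = -1 := Subtype.ext (by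
    rw [cube_eq, h, Matrix.SpecialLinearGroup.coe_neg, Matrix.SpecialLinearGroup.coe_one]; simp)
  rw [pow_succ, pow_two, ← map_mul, ← map_mul, e, mk_neg, map_one]

variable [Fintype F]

theorem sq_ne_of_SS {x : PSL} (hx : SS 2 x) : x ^ 2 ≠ 1 := fun e =>
  hx.2 (by rw [orderOf_eq_prime e hx.1])

theorem SS_of_sq_ne {x : PSL} (hx : x ^ 2 ≠ 1) : SS 2 x :=
  ((psl (F := F) 2).order_cases x fun e => hx (by rw [e, one_pow])).resolve_right fun e =>
    hx (orderOf_dvd_iff_pow_eq_one.mp (dvd_of_eq e))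

theorem ne_one_of_two {u : PSL} (hu : orderOf u = 2) : u ≠ 1 := fun e => by
  rw [e, orderOf_one] at hu; omega

theorem cj_cent (c u : PSL) : cj c (cent u) = cent (c * u * c⁻¹) := by
  ext z
  rw [mem_cj, mem_cent, mem_cent]
  constructor <;> intro h
  · simpa [mul_assoc] using h.map (MulAut.conj c)
  · simpa [mul_assoc] using h.map (MulAut.conj c⁻¹)

/-- An element inverting a semisimple element of a Borel subgroup leaves it. -/
theorem inverter_not_bor {u t g : PSL} (hu : orderOf u = 2) (ht : SS 2 t) (htu : t ∈ bor u)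
    (hg : g * t * g⁻¹ = t⁻¹) : g ∉ bor u := by
  intro hgu
  have hc := (psl (F := F) 2).borel_comm u g t hu ((mem_bor (psl 2) hu).mp hgu) ((mem_bor (psl 2) hu).mp htu)
  rw [hg] at hc
  have hne : t⁻¹ * t⁻¹ ≠ 1 := fun e => sq_ne_of_SS ht (by
    rw [pow_two, ← inv_inv (t * t), _root_.mul_inv_rev, e, inv_one])
  exact not_commute_of_SS (psl 2) hu ((psl (F := F) 2).T_eq t _ ht
    (mul_mem (inv_mem ((psl 2).mem_T t ht)) (inv_mem ((psl 2).mem_T t ht))) hne).1 hc

theorem card_bor_two {u : PSL} (hu : orderOf u = 2) :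
    Nat.card (bor u : Subgroup PSL) = q * (q - 1) := by
  have h := card_bor 2 hu
  rcases gcd_cases (F := F) 2 with ⟨hg, -⟩ | ⟨-, hodd⟩
  · rwa [hg, one_mul] at h
  · exfalso
    obtain ⟨n, -, hn⟩ := FiniteField.card F 2
    rw [hn, Nat.pow_mod] at hodd
    simp [zero_pow n.ne_zero] at hodd

variable (h4 : 4 ≤ Fintype.card F) {H P : Subgroup (Matrix.ProjectiveSpecialLinearGroup (Fin 2) F)}
  (hH : H ≠ ⊤) (hB : Binary H) (hP : Min H P)

include h4 hH hB hP in
theorem min_unipotent {u : PSL} (hu : orderOf u = 2) (huP : u ∈ P) : P = cent u := by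
  have hN := norm_le_bor 2 h4 hH hP hu huP
  have hle : P ≤ cent u := by
    intro t ht
    by_cases ht2 : t ^ 2 = 1
    · exact mem_cent_of_mem_bor 2 hu (hN (Subgroup.le_normalizer ht)) ht2
    · exfalso
      have hts := SS_of_sq_ne ht2
      obtain ⟨g, -, hg⟩ := exists_inverter 2 hts
      exact inverter_not_bor hu hts (hN (Subgroup.le_normalizer ht)) hg
        (hN (hP.norm ht hts.1 (hg ▸ inv_mem ht)))
  refine le_antisymm hle ?_
  obtain ⟨g, a, ha, e⟩ := exists_conj_up 2 hu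
  have hQ := hP.conj g⁻¹
  have hop : orderOf (mk (up a)) = 2 := order_p_mk_up 2 ha
  have hua : mk (up a) ∈ cj g⁻¹ P := mem_cj.mpr (by rw [← e]; simpa [mul_assoc] using huP)
  have hne : mk (up a) ≠ 1 := ne_one_of_two hop
  -- all upper transvections lie in the conjugate
  have hall : ∀ r : F, mk (up r) ∈ cj g⁻¹ P := by
    intro r
    obtain ⟨μ, hμ⟩ := PSL2.generate_squares_even (p := 2) rfl (r / a)
    have hr : r = μ ^ 2 * a := by rw [hμ]; field_simp
    by_cases hμ0 : μ = 0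
    · rw [hr, hμ0, show up ((0 : F) ^ 2 * a) = 1 from Subtype.ext (by simp [Matrix.one_fin_two]), map_one]
      exact one_mem _
    by_cases hμ1 : μ = 1
    · rw [hr, hμ1, one_pow, one_mul]; exact hua
    have hμ1' : 1 + μ ≠ 0 := fun e => hμ1 (by
      linear_combination e - CharTwo.two_eq_zero (R := F))
    have key : ∀ (ν : F) (hν : ν ≠ 0),
        mk (PSL2.dSL ν hν) * mk (up a) * (mk (PSL2.dSL ν hν))⁻¹ = mk (up (ν ^ 2 * a)) :=
      fun ν hν => PSL2.mk_diag_conj_u ν hν a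
    rw [hr]
    refine hQ.tri hB hua hne (mem_cj_of_conj hua (key μ hμ0)) (k := mk (PSL2.dSL (1 + μ) hμ1')) ?_
    refine mem_cj_of_conj hua ((key _ hμ1').trans ?_)
    rw [← map_inv, ← map_mul]
    congr 1
    obtain ⟨i00, i01, i10, i11⟩ := Dickson.inv_entries (up (μ ^ 2 * a))
    apply Dickson.ext_entries <;> simp only [Dickson.mul_entry, i00, i01, i10, i11] <;>
      simp [CharTwo.neg_eq]
    linear_combination μ * a * CharTwo.two_eq_zero (R := F)
  intro y hy
  have hy' : g⁻¹ * y * g ∈ cent (mk (up a)) := by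
    rw [mem_cent, ← e]
    simpa [mul_assoc] using (mem_cent.mp hy).map (MulAut.conj g⁻¹)
  suffices h : g⁻¹ * y * g ∈ cj g⁻¹ P by simpa [mem_cj, mul_assoc] using h
  obtain ⟨B, hBe⟩ := mk_surj (g⁻¹ * y * g)
  rw [← hBe] at hy' ⊢
  by_cases hB1 : mk B = 1
  · rw [hB1]; exact one_mem _
  have h10 := (mem_bor_up 2 ha).mp (Subgroup.le_normalizer hy')
  have ht : B.1.trace = 0 := trace_eq_zero_of_sq hB1
    (orderOf_dvd_iff_pow_eq_one.mp (dvd_of_eq (orderOf_of_cent (psl 2) hop hy' hB1)))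
  rw [Matrix.trace_fin_two] at ht
  have hdet : B.1 0 0 * B.1 1 1 - B.1 0 1 * B.1 1 0 = 1 := by rw [← Matrix.det_fin_two]; exact B.2
  have h00 : B.1 0 0 = 1 := sub_eq_zero.mp (mul_self_eq_zero.mp
    (show (B.1 0 0 - 1) * (B.1 0 0 - 1) = 0 by
      linear_combination -hdet + B.1 0 0 * ht - B.1 0 1 * h10 - B.1 0 0 * CharTwo.two_eq_zero (R := F)))
  have h11 : B.1 1 1 = 1 := by linear_combination ht - h00 - CharTwo.two_eq_zero (R := F)
  rw [show B = up (B.1 0 1) from Dickson.ext_entries (by simpa using h00) (by simp) (by simpa using h10)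
    (by simpa using h11)]
  exact hall _

/-- A semisimple element of trace other than one has no exceptional overgroup. -/
theorem not_exc {L : Subgroup PSL} (hL : L ≠ ⊤) {A : SL} (hx : SS 2 (mk A)) (hs : A.1.trace ≠ 1)
    (h4' : 4 ≤ q) (hT : (psl 2).T (mk A) ≤ L) : ¬ Exc L := by
  have hxL : mk A ∈ L := hT ((psl 2).mem_T _ hx)
  have h3 : mk A ^ 3 ≠ 1 := fun e => hs (trace_one_of_cube hx.1 e)
  have h2 := sq_ne_of_SS hx
  obtain ⟨hgcd, heven⟩ : Nat.gcd 2 (q - 1) = 1 ∧ q % 2 = 0 := by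
    rcases gcd_cases (F := F) 2 with h | ⟨-, hodd⟩
    · exact h
    · exfalso
      obtain ⟨n, -, hn⟩ := FiniteField.card F 2
      rw [hn, Nat.pow_mod] at hodd
      simp [zero_pow n.ne_zero] at hodd
  have tr : ∀ {M : Type} [Group M] (e : L ≃* M) (k : ℕ), e ⟨mk A, hxL⟩ ^ k = 1 → mk A ^ k = 1 := by
    intro M _ e k h
    rw [← map_pow, e.map_eq_one_iff] at h
    simpa using congrArg Subtype.val h
  rintro (⟨⟨e⟩⟩ | ⟨⟨e⟩⟩ | ⟨⟨e⟩⟩ | ⟨h9, -⟩)
  · rcases a4_orders (e ⟨mk A, hxL⟩) with h | h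
    · exact h2 (tr e 2 h)
    · exact h3 (tr e 3 h)
  · rcases s4_orders (e ⟨mk A, hxL⟩) with h | h
    · exact h3 (tr e 3 h)
    · have h4x := tr e 4 h
      have : orderOf (mk A) ∣ 4 := orderOf_dvd_of_pow_eq_one h4x
      have hle := Nat.le_of_dvd (by norm_num) this
      have hodd := hx.2
      interval_cases h : orderOf (mk A)
      all_goals first
        | exact hx.1 (orderOf_eq_one_iff.mp h)
        | omega
        | norm_num [h] at this hodd ⊢
  · rcases a5_orders (e ⟨mk A, hxL⟩) with h | h | h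
    · exact h2 (tr e 2 h)
    · exact h3 (tr e 3 h)
    · have : Fact (Nat.Prime 5) := ⟨by norm_num⟩
      have hx5 : orderOf (mk A) = 5 := orderOf_eq_prime (tr e 5 h) hx.1
      obtain ⟨t, htT, htn⟩ := exists_generator 2 hx
      have ht5 : orderOf t ∣ 2 ∨ orderOf t ∣ 3 ∨ orderOf t ∣ 5 := by
        rcases a5_orders (e ⟨t, hT htT⟩) with h | h | h <;>
          rw [← map_pow, e.map_eq_one_iff] at h <;>
          have h' := orderOf_dvd_of_pow_eq_one (show t ^ _ = 1 by simpa using congrArg Subtype.val h)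
        exacts [Or.inl h', Or.inr (Or.inl h'), Or.inr (Or.inr h')]
      have hd : 5 ∣ orderOf t := htn ▸ hx5 ▸ Subgroup.orderOf_dvd_natCard _ ((psl 2).mem_T _ hx)
      have hc := card_T 2 h4' hx
      rw [hgcd, one_mul, ← htn] at hc
      have hn : orderOf t = 5 := by
        rcases ht5 with h | h | h <;> have := hd.trans h <;> first
          | (have := Nat.le_of_dvd (by norm_num) this; omega)
          | exact Nat.dvd_antisymm h hd
      have hq : Fintype.card F = 4 := by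
        rw [hn] at hc
        obtain ⟨m, -, hm⟩ := FiniteField.card F 2
        rcases hc with hc | hc
        · omega
        · exfalso
          have h6 : (2 : ℕ) ^ (m : ℕ) = 6 := by omega
          rcases (show (m : ℕ) ≤ 2 ∨ 3 ≤ (m : ℕ) by omega) with h | h
          · have := Nat.pow_le_pow_right (show 2 > 0 by norm_num) h; omega
          · have := Nat.pow_le_pow_right (show 2 > 0 by norm_num) h; omega
      apply hL
      refine Subgroup.eq_top_of_le_card L ?_
      have hG := card_psl (F := F)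
      rw [hgcd, hq, one_mul] at hG
      rw [hG, Nat.card_congr e.toEquiv, nat_card_alternatingGroup, Nat.card_fin]
      decide
  · omega

include h4 hH hB hP in
theorem min_trace {A : SL} (hx : SS 2 (mk A)) (hxP : mk A ∈ P) : A.1.trace = 1 := by
  by_contra hs
  have := PSL2Max.isSimple (F := F) h4
  have ht : A.1.trace ≠ 0 := fun e => sq_ne_of_SS hx (sq_eq_one_of_trace e)
  obtain ⟨hexc, -, hT, -⟩ := exc_of_min 2 h4 hH hB hP hx hxP ht fun _ => hs
  exact not_exc (hP.norm_ne_top hH) hx hs h4 hT hexc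

/-- A non-trivial subgroup of exponent three has order three. -/
theorem card_three {H : Subgroup PSL} (h1 : H ≠ ⊥) (h3 : ∀ y ∈ H, y ^ 3 = 1) :
    Nat.card H = 3 ∧ ∀ z ∈ H, z ≠ 1 → H ≤ (psl 2).T z := by
  have : Fact (Nat.Prime 3) := ⟨Nat.prime_three⟩
  have hp : IsPGroup 3 H := fun y => ⟨1, Subtype.ext (by simpa using h3 y.1 y.2)⟩
  have : Nontrivial H := (Subgroup.nontrivial_iff_ne_bot H).mpr h1
  have := hp.center_nontrivial
  obtain ⟨z0, hz0⟩ := exists_ne (1 : Subgroup.center H)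
  have hsq : ∀ z ∈ H, z ≠ 1 → z ^ 2 ≠ 1 := fun z hz hz1 e => hz1 (by
    have := h3 z hz; rwa [pow_succ, e, one_mul] at this)
  have hz : ((z0 : H) : PSL) ∈ H := (z0 : H).2
  have hz1 : ((z0 : H) : PSL) ≠ 1 := fun e => hz0 (Subtype.ext (Subtype.ext e))
  have hzs := SS_of_sq_ne (hsq _ hz hz1)
  have hle : H ≤ (psl 2).T ((z0 : H) : PSL) := fun y hy => mem_T_of_commute 2 hzs (hsq _ hz hz1)
    (congrArg Subtype.val (Subgroup.mem_center_iff.mp z0.2 ⟨y, hy⟩))
  have := (psl (F := F) 2).T_cyclic _ hzs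
  have hcyc : IsCyclic H := Subgroup.isCyclic_of_le hle
  refine ⟨le_antisymm ?_ ?_, fun w hw hw1 => ?_⟩
  · classical
    have := Fintype.ofFinite H
    have h := IsCyclic.card_pow_eq_one_le (α := H) (show 0 < 3 by norm_num)
    rwa [Finset.filter_true_of_mem (fun y _ => Subtype.ext (by simpa using h3 y.1 y.2)),
      Finset.card_univ, ← Nat.card_eq_fintype_card] at h
  · exact Nat.le_of_dvd Nat.card_pos (orderOf_eq_prime (h3 _ hz) hz1 ▸ Subgroup.orderOf_dvd_natCard H hz)
  · rw [((psl (F := F) 2).T_eq _ w hzs (hle hw) hw1).2]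
    exact hle

include h4 hH hB hP in
theorem min_cases : (∃ u, orderOf u = 2 ∧ P = cent u) ∨
    ((∀ y ∈ P, y ^ 2 = 1 → y = 1) ∧ Nat.card P = 3 ∧ (∀ y ∈ P, y ^ 3 = 1) ∧
      ∀ z ∈ P, z ≠ 1 → P ≤ (psl 2).T z) := by
  by_cases h : ∃ u ∈ P, orderOf u = 2
  · obtain ⟨u, huP, hu⟩ := h
    exact Or.inl ⟨u, hu, min_unipotent h4 hH hB hP hu huP⟩
  push Not at h
  have hno : ∀ y ∈ P, y ^ 2 = 1 → y = 1 := fun y hy h2 => by
    by_contra h1; exact h y hy (orderOf_eq_prime h2 h1)
  have h3 : ∀ y ∈ P, y ^ 3 = 1 := by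
    intro y hy
    by_cases h1 : y = 1
    · rw [h1, one_pow]
    obtain ⟨A, rfl⟩ := mk_surj y
    exact cube_of_trace (min_trace h4 hH hB hP (SS_of_sq_ne fun e => h1 (hno _ hy e)) hy)
  obtain ⟨hc, hT⟩ := card_three hP.ne_bot h3
  exact Or.inr ⟨hno, hc, h3, hT⟩

include h4 hH hB hP in
theorem odd_exponent {a : ℕ} (ha : q = 2 ^ a) (hc : Nat.card P = 3) : Odd a := by
  by_contra hodd
  obtain ⟨k, rfl⟩ : Even a := Nat.not_odd_iff_even.mp hodd
  have : Fact (Nat.Prime 3) := ⟨Nat.prime_three⟩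
  obtain ⟨hno, hd3, h3, hT⟩ := (min_cases h4 hH hB hP).resolve_left (by
    rintro ⟨u, hu, e⟩
    rw [e, card_cent 2 hu] at hc
    omega)
  classical
  obtain ⟨w, hw⟩ := exists_prime_orderOf_dvd_card' (G := Fˣ) 3 (by
    rw [Nat.card_eq_fintype_card, Fintype.card_units, ha, ← two_mul, pow_mul]
    have h : (2 ^ 2) ^ k % 3 = 1 := by rw [Nat.pow_mod]; simp
    omega)
  have hw1 : (w : F) ≠ 1 := fun e => by
    rw [Units.ext (show (w : F) = ((1 : Fˣ) : F) from e.trans Units.val_one.symm), orderOf_one] at hw; omega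
  have hw3 : (w : F) ^ 3 = 1 := by rw [← Units.val_pow_eq_pow_val, ← hw, pow_orderOf_eq_one, Units.val_one]
  have hw2 : (w : F) ^ 2 + w + 1 = 0 := (mul_eq_zero.mp
    (show ((w : F) - 1) * ((w : F) ^ 2 + w + 1) = 0 by linear_combination hw3)).resolve_left (sub_ne_zero.mpr hw1)
  have two := CharTwo.two_eq_zero (R := F)
  let D : SL := ⟨!![(w : F), 0; 0, (w : F) ^ 2], by rw [Matrix.det_fin_two_of]; linear_combination hw3⟩
  let B : SL := ⟨!![(w : F) ^ 2, 0; 1, (w : F)], by rw [Matrix.det_fin_two_of]; linear_combination hw3⟩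
  obtain ⟨x, hxP, hx1⟩ : ∃ x ∈ P, x ≠ 1 := by
    by_contra h
    push Not at h
    exact hP.ne_bot (eq_bot_iff.mpr fun z hz => Subgroup.mem_bot.mpr (h z hz))
  obtain ⟨A, rfl⟩ := mk_surj x
  have hA := trace_one_of_cube hx1 (h3 _ hxP)
  have hA4 : A.1.trace ^ 2 ≠ 4 := by
    rw [hA]; intro e
    exact one_ne_zero (show (1 : F) = 0 by linear_combination e + 2 * two)
  have hD : D.1.trace = 1 := by
    simp only [D, Matrix.trace_fin_two_of]; linear_combination hw2 - two
  obtain ⟨c, hcD⟩ := conj_of_trace_sq (A := A) (B := D) hA4 (by rw [hD, hA])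
  have hQ := hP.conj c
  have hDQ : mk D ∈ cj c P := mem_cj_of_conj hxP hcD
  have hD1 : mk D ≠ 1 := fun e => hx1 (by rwa [← hcD, mul_inv_eq_one, mul_eq_left] at e)
  have hBt : B.1.trace = 1 := by
    simp only [B, Matrix.trace_fin_two_of]; linear_combination hw2 - two
  have hCt : (B⁻¹ * D).1.trace = 1 := by
    obtain ⟨i00, i01, i10, i11⟩ := Dickson.inv_entries B
    rw [Matrix.trace_fin_two, Dickson.mul_entry, Dickson.mul_entry, i00, i01, i10, i11]
    simp only [D, B, Matrix.of_apply, Matrix.cons_val', Matrix.cons_val_zero, Matrix.cons_val_one,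
      Matrix.cons_val_fin_one, Matrix.empty_val']
    linear_combination hw2 + (w : F) * hw3 - two
  have hD4 : D.1.trace ^ 2 ≠ 4 := by rwa [hD, ← hA]
  obtain ⟨g1, hg1⟩ := conj_of_trace_sq (A := D) (B := B) hD4 (by rw [hBt, hD])
  obtain ⟨g2, hg2⟩ := conj_of_trace_sq (A := D) (B := B⁻¹ * D) hD4 (by rw [hCt, hD])
  have hBQ : mk B ∈ cj c P := hQ.tri hB hDQ hD1 (mem_cj_of_conj hDQ hg1) (k := g2) (by
    rw [← map_inv, ← map_mul]
    exact mem_cj_of_conj hDQ hg2)
  have hBT : mk B ∈ (psl 2).T (mk D) := by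
    rcases min_cases h4 hH hB hQ with ⟨u, hu, e⟩ | ⟨-, -, -, hT'⟩
    · rw [← card_cj c P, e, card_cent 2 hu] at hc; omega
    · exact hT' _ hDQ hD1 hBQ
  rw [PSL2Max.T_mk, mem_cT_diag (by simp [D]) (by simp [D]) (by
    simp [D]
    intro e
    exact hw1 (mul_left_cancel₀ w.ne_zero (by linear_combination -e)))] at hBT
  simp [B] at hBT

end CfsgLib.PSL2Binary
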