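/-
Characteristic two: the stabilisers of binary coset actions, both directions.
-/
import Cfsg.Agent.Lib.PSL2Binary.Even

set_option autoImplicit false

namespace CfsgLib.PSL2Binary

open Matrix
open CfsgLib.BinaryCosets
open CfsgLib.PSL2 (mk)
open CfsgLib.DicksonFull

variable {F : Type*} [Field F] [CharP F 2] [Fintype F]

local notation "SL" => Matrix.SpecialLinearGroup (Fin 2) F
local notation "PSL" => Matrix.ProjectiveSpecialLinearGroup (Fin 2) F
local notation "q" => Fintype.card F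

theorem three_not_dvd_bor {a : ℕ} (ha : Odd a) (hq : q = 2 ^ a) {u : PSL} (hu : orderOf u = 2) :
    ¬ 3 ∣ Nat.card (bor u : Subgroup PSL) := by
  have : Fact (Nat.Prime 3) := ⟨Nat.prime_three⟩
  rw [card_bor_two hu, Nat.prime_three.dvd_mul]
  obtain ⟨k, rfl⟩ := ha
  have h : 2 ^ (2 * k + 1) % 3 = 2 := by rw [pow_succ, pow_mul, Nat.mul_mod, Nat.pow_mod]; simp
  rw [hq]
  generalize 2 ^ (2 * k + 1) = X at h ⊢
  rintro (h' | h') <;> omega

theorem not_three_mem_bor {a : ℕ} (ha : Odd a) (hq : q = 2 ^ a) {u x : PSL} (hu : orderOf u = 2)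
    (hx : x ∈ bor u) (hx3 : x ^ 3 = 1) : x = 1 := by
  have : Fact (Nat.Prime 3) := ⟨Nat.prime_three⟩
  by_contra hx1
  exact three_not_dvd_bor ha hq hu (orderOf_eq_prime hx3 hx1 ▸ Subgroup.orderOf_dvd_natCard _ hx)

theorem exists_ne_of_card {P : Subgroup PSL} (hP : P ≠ ⊥) : ∃ x ∈ P, x ≠ 1 := by
  by_contra h
  push Not at h
  exact hP (eq_bot_iff.mpr fun z hz => Subgroup.mem_bot.mpr (h z hz))

/-- A binary stabiliser containing a Sylow `2`-subgroup is one. -/
theorem eq_cent (h4 : 4 ≤ q) {a : ℕ} (hq : q = 2 ^ a) {H : Subgroup PSL} (hH : H ≠ ⊤) (hB : Binary H)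
    {u : PSL} (hu : orderOf u = 2) (hle : cent u ≤ H) : H = cent u := by
  refine le_antisymm (fun t ht => ?_) hle
  have hbor := le_bor_of_cent_le 2 hH hu hle
  by_cases ht2 : t ^ 2 = 1
  · exact mem_cent_of_mem_bor 2 hu (hbor ht) ht2
  exfalso
  have hts := SS_of_sq_ne ht2
  obtain ⟨g, -, hg⟩ := exists_inverter 2 hts
  have hnot := inverter_not_bor hu hts (hbor ht) hg
  have htg : t ∈ H ⊓ cj g H := by
    refine ⟨ht, mem_cj.mpr ?_⟩
    have h' := congrArg (fun z => g⁻¹ * z⁻¹ * g) hg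
    simp only [_root_.mul_inv_rev, inv_inv, ← mul_assoc] at h'
    rw [← h']
    simpa [mul_assoc] using ht
  obtain ⟨P, hP, hPle⟩ := exists_min ((isInt_self H).inf (isInt_cj H g))
    (fun e => hts.1 (Subgroup.mem_bot.mp (e ▸ htg)))
  rcases min_cases h4 hH hB hP with ⟨v, hv, e⟩ | ⟨-, hc, h3, -⟩
  · have hvP : v ∈ H ⊓ cj g H := hPle (e ▸ self_mem_cent v)
    have hvu : v ∈ cent u :=
      mem_cent_of_mem_bor 2 hu (hbor hvP.1) (orderOf_dvd_iff_pow_eq_one.mp (dvd_of_eq hv))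
    have hce : cent v = cent u := cent_eq (psl 2) hu hv (mem_cent.mp hvu)
    have hug : g⁻¹ * u * g ∈ H := mem_cj.mp (hPle (by rw [e, hce]; exact self_mem_cent u)).2
    have hord : orderOf (g⁻¹ * u * g) = 2 := by
      rw [show g⁻¹ * u * g = MulAut.conj g⁻¹ u by simp, (MulAut.conj g⁻¹).orderOf_eq, hu]
    have hgb : g⁻¹ ∈ bor u := (mem_bor (psl 2) hu).mpr (by
      rw [inv_inv]
      exact mem_cent.mp (mem_cent_of_mem_bor 2 hu (hbor hug) (orderOf_dvd_iff_pow_eq_one.mp (dvd_of_eq hord))))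
    exact hnot (by simpa using inv_mem hgb)
  · obtain ⟨x, hx, hx1⟩ := exists_ne_of_card hP.ne_bot
    exact hx1 (not_three_mem_bor (odd_exponent h4 hH hB hP hq hc) hq hu (hbor (hPle hx).1) (h3 x hx))

theorem forward (h4 : 4 ≤ q) {a : ℕ} (hq : q = 2 ^ a) {H : Subgroup PSL} (hH : H ≠ ⊤) (hB : Binary H)
    (hbot : H ≠ ⊥) : (∃ P : Sylow 2 PSL, H = P) ∨ (Odd a ∧ Nat.card H = 3) := by
  have := PSL2Max.isSimple (F := F) h4
  by_cases hI : ∃ P u, Min H P ∧ orderOf u = 2 ∧ P = cent u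
  · left
    obtain ⟨P, u, hP, hu, rfl⟩ := hI
    obtain ⟨g, hg⟩ := hP.int.exists_le
    have hH' : cj g H ≠ ⊤ := (isInt_cj H g).ne_top hH
    have e := eq_cent h4 hq hH' (hB.cj g) hu hg
    have hu' : orderOf (g⁻¹ * u * g⁻¹⁻¹) = 2 := by
      rw [show g⁻¹ * u * g⁻¹⁻¹ = MulAut.conj g⁻¹ u from rfl, (MulAut.conj g⁻¹).orderOf_eq, hu]
    obtain ⟨S, hS⟩ := exists_sylow_cent 2 hu'
    refine ⟨S, ?_⟩
    rw [hS, ← cj_cent, ← e, cj_cj, inv_mul_cancel, cj_one]
  right
  have hall : ∀ P, Min H P → (∀ y ∈ P, y ^ 2 = 1 → y = 1) ∧ Nat.card P = 3 ∧ (∀ y ∈ P, y ^ 3 = 1) ∧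
      ∀ z ∈ P, z ≠ 1 → P ≤ (psl 2).T z := fun P hP =>
    (min_cases h4 hH hB hP).resolve_left fun ⟨u, hu, e⟩ => hI ⟨P, u, hP, hu, e⟩
  obtain ⟨P0, hP0, -⟩ := exists_min (isInt_self H) hbot
  have hodd : Odd a := odd_exponent h4 hH hB hP0 hq (hall _ hP0).2.1
  have hnormtop : ∀ K, IsInt H K → K ≠ ⊥ → Subgroup.normalizer (K : Set PSL) ≠ ⊤ := by
    intro K hK hK1 e
    rcases (Subgroup.normalizer_eq_top_iff.mp e).eq_bot_or_eq_top with h | h
    · exact hK1 h
    · exact hK.ne_top hH h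
  have hno : ∀ y ∈ H, y ^ 2 = 1 → y = 1 := by
    intro y hy h2
    by_contra hy1
    have hyo : orderOf y = 2 := orderOf_eq_prime h2 hy1
    obtain ⟨K, hK, hyK, hmin⟩ := exists_least (isInt_self H) hy
    have hKb : K ≠ ⊥ := fun e => hy1 (Subgroup.mem_bot.mp (e ▸ hyK))
    have hb := le_bor_of_cent_le 2 (hnormtop K hK hKb) hyo fun g hg => least_norm hK hyK hmin (mem_cent.mp hg)
    obtain ⟨P, hP, hPK⟩ := exists_min hK hKb
    obtain ⟨x, hx, hx1⟩ := exists_ne_of_card hP.ne_bot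
    exact hx1 (not_three_mem_bor hodd hq hyo (hb (Subgroup.le_normalizer (hPK hx))) ((hall P hP).2.2.1 x hx))
  have h3 : ∀ y ∈ H, y ^ 3 = 1 := by
    intro y hy
    by_cases hy1 : y = 1
    · rw [hy1, one_pow]
    obtain ⟨A, rfl⟩ := mk_surj y
    by_cases hs : A.1.trace = 1
    · exact cube_of_trace hs
    exfalso
    have hys : SS 2 (mk A) := SS_of_sq_ne fun e => hy1 (hno _ hy e)
    obtain ⟨K, hK, hyK, hmin⟩ := exists_least (isInt_self H) hy
    have hKb : K ≠ ⊥ := fun e => hy1 (Subgroup.mem_bot.mp (e ▸ hyK))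
    have hKno : ∀ z ∈ K, z ^ 2 = 1 → z = 1 := by
      intro z hz hz2
      obtain ⟨g, hg⟩ := hK.exists_le
      have := hno _ (mem_cj.mp (hg hz)) (by
        rw [show g⁻¹ * z * g = MulAut.conj g⁻¹ z by simp, ← map_pow, hz2, map_one])
      calc z = g * (g⁻¹ * z * g) * g⁻¹ := by group
        _ = 1 := by rw [this]; group
    have hT : (psl 2).T (mk A) ≤ Subgroup.normalizer (K : Set PSL) := fun g hg =>
      least_norm hK hyK hmin (tor_comm hys hg ((psl 2).mem_T _ hys))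
    have hn : 3 ≤ Nat.card ((psl 2).T (mk A)) := by
      have hd := Subgroup.orderOf_dvd_natCard _ ((psl 2).mem_T _ hys)
      have h0 : 0 < Nat.card ((psl 2).T (mk A)) := Nat.card_pos
      by_contra hlt
      refine sq_ne_of_SS hys (orderOf_dvd_iff_pow_eq_one.mp (hd.trans ?_))
      rcases (show Nat.card ((psl 2).T (mk A)) = 1 ∨ Nat.card ((psl 2).T (mk A)) = 2 by omega) with e | e <;>
        rw [e]
      exact one_dvd 2
    have hKT : K ≤ (psl 2).T (mk A) := by
      rcases over_torus 2 h4 (hnormtop K hK hKb) hys hT hn with h | ⟨u, hu, h⟩ | h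
      · intro z hz
        by_cases hz2 : z ^ 2 = 1
        · rw [hKno z hz hz2]; exact one_mem _
        · exact mem_T_of_norm 2 hys (h (Subgroup.le_normalizer hz)) hz2
      · intro z hz
        have hzu := h (Subgroup.le_normalizer hz)
        have hAu := h (Subgroup.le_normalizer hyK)
        have hw := (psl (F := F) 2).borel_comm u z (mk A) hu ((mem_bor (psl 2) hu).mp hzu)
          ((mem_bor (psl 2) hu).mp hAu)
        have hwK : z * mk A * z⁻¹ * (mk A)⁻¹ ∈ K :=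
          mul_mem (mul_mem (mul_mem hz hyK) (inv_mem hz)) (inv_mem hyK)
        have hw1 := hKno _ hwK (((psl (F := F) 2).u_cen u _ u hu hw (Commute.refl u)).2)
        rw [mul_inv_eq_one, mul_inv_eq_iff_eq_mul] at hw1
        exact mem_T_of_commute 2 hys (sq_ne_of_SS hys) hw1
      · exact absurd h (not_exc (hnormtop K hK hKb) hys hs h4 hT)
    have hKcomm : ∀ g : PSL, ∀ z ∈ cj g K, ∀ z' ∈ cj g K, Commute z z' := by
      intro g z hz z' hz'
      have := (tor_comm hys (hKT (mem_cj.mp hz)) (hKT (mem_cj.mp hz'))).map (MulAut.conj g)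
      simpa [mul_assoc] using this
    obtain ⟨x, hxP, hx1⟩ := exists_ne_of_card hP0.ne_bot
    obtain ⟨B, rfl⟩ := mk_surj x
    have hB1 := trace_one_of_cube hx1 ((hall _ hP0).2.2.1 _ hxP)
    have hB4 : B.1.trace ^ 2 ≠ 4 := by
      rw [hB1]; intro e
      exact one_ne_zero (show (1 : F) = 0 by linear_combination e + 2 * CharTwo.two_eq_zero (R := F))
    have hA4 : A.1.trace ^ 2 ≠ 4 := SS.trace 2 hys
    obtain ⟨X, Y, hX, hY, hXY⟩ := PSL2Product.exists_mul (α := A.1.trace) (β := A.1.trace) (g := B)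
      (SL2Centralizer.not_scalar_of_trace hB4) (Or.inl hB4)
    obtain ⟨g1, hg1⟩ := conj_of_trace_sq (A := A) (B := X) hA4 (by rw [hX])
    obtain ⟨g2, hg2⟩ := conj_of_trace_sq (A := A) (B := Y) hA4 (by rw [hY])
    have hXK := mem_cj_of_conj hyK hg1
    have hYK := mem_cj_of_conj hyK hg2
    have hbad : X * Y = Y * X → False := by
      intro hc
      have hX4 : X.1.trace ^ 2 ≠ 4 := by rwa [hX]
      rcases eq_or_eq_inv' hX4 (by rw [hY, hX]) hc.symm with e | e
      · rw [e] at hXY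
        have h := congrArg (fun z : SL => z.1.trace) hXY
        simp only [Matrix.SpecialLinearGroup.coe_mul, SL2Orders.sq_eq, Matrix.trace_sub, Matrix.trace_smul,
          Matrix.trace_one, Fintype.card_fin, smul_eq_mul, hX, hB1] at h
        push_cast at h
        exact hs (sub_eq_zero.mp (mul_self_eq_zero.mp (show (A.1.trace - 1) * (A.1.trace - 1) = 0 by
          linear_combination h + (2 - A.1.trace) * CharTwo.two_eq_zero (R := F))))
      · rw [e, mul_inv_cancel] at hXY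
        exact hx1 (by rw [← hXY, map_one])
    have hcc : Commute (mk X) (mk Y) → False := fun h => hbad (mk_inj (by rw [map_mul, map_mul, h.eq]))
    refine hP0.witness' hB (hK.conj g1) (hK.conj g2) hxP (fun h => hcc ?_) (fun h => hcc ?_) hXK (by
      rw [← map_inv, ← map_mul, ← hXY, inv_mul_cancel_left]; exact hYK)
    · have h' := hKcomm g1 _ hXK _ h
      rw [← hXY, map_mul] at h'
      have := ((Commute.refl (mk X)).inv_right).mul_right h'
      rwa [inv_mul_cancel_left] at this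
    · have h' := hKcomm g2 _ hYK _ h
      rw [← hXY, map_mul] at h'
      have := h'.mul_right ((Commute.refl (mk Y)).inv_right)
      rw [mul_inv_cancel_right] at this
      exact this.symm
  exact ⟨hodd, (card_three hbot h3).1⟩

/-- Sylow `2`-subgroups give binary actions. -/
theorem binary_cent {u : PSL} (hu : orderOf u = 2) : Binary (cent u) := by
  have hTI : ∀ g : PSL, cent u ⊓ cj g (cent u) ≠ ⊥ → cj g (cent u) = cent u := by
    intro g h
    obtain ⟨y, hy, hy1⟩ := exists_ne_of_card h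
    have hy2 : orderOf y = 2 := orderOf_of_cent (psl 2) hu hy.1 hy1
    have hgu : orderOf (g * u * g⁻¹) = 2 := by
      rw [show g * u * g⁻¹ = MulAut.conj g u from rfl, (MulAut.conj g).orderOf_eq, hu]
    have h2 : y ∈ cj g (cent u) := hy.2
    rw [cj_cent] at h2 ⊢
    rw [← cent_eq (psl 2) hgu hy2 (mem_cent.mp h2), cent_eq (psl 2) hu hy2 (mem_cent.mp hy.1)]
  refine binary_of_TI hTI fun g x hx hx1 y hy hy1 ⟨k, hk⟩ => hTI g fun e => hy1 ?_
  have hsq : ∀ (g : PSL), ∀ z ∈ cj g (cent u), z * z = 1 := by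
    intro g z hz
    rw [cj_cent] at hz
    have hgu : orderOf (g * u * g⁻¹) = 2 := by
      rw [show g * u * g⁻¹ = MulAut.conj g u from rfl, (MulAut.conj g).orderOf_eq, hu]
    rw [← pow_two]
    exact ((psl (F := F) 2).u_cen _ z _ hgu (mem_cent.mp hz) (Commute.refl _)).2
  have e1 := hsq 1 x (by rw [cj_one]; exact hx)
  have e2 := hsq g y hy
  have e3 := hsq k _ hk
  have hc : Commute y x := by
    show y * x = x * y
    calc y * x = x⁻¹ * ((x * y) * (x * y)) * y⁻¹ := by group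
      _ = x⁻¹ * y⁻¹ := by rw [e3]; group
      _ = x * y := by rw [inv_eq_of_mul_eq_one_right e1, inv_eq_of_mul_eq_one_right e2]
  have hxo : orderOf x = 2 := orderOf_of_cent (psl 2) hu hx hx1
  have hyu : y ∈ cent u := by
    rw [← cent_eq (psl 2) hu hxo (mem_cent.mp hx)]
    exact mem_cent.mpr hc
  have : y ∈ cent u ⊓ cj g (cent u) := ⟨hyu, hy⟩
  rwa [e, Subgroup.mem_bot] at this

/-- Subgroups of order three give binary actions when `a` is odd. -/
theorem binary_three {a : ℕ} (ha : Odd a) (hq : q = 2 ^ a) {H : Subgroup PSL} (hc : Nat.card H = 3) :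
    Binary H := by
  have hcube : ∀ (g : PSL), ∀ z ∈ cj g H, z ^ 3 = 1 := fun g z hz =>
    orderOf_dvd_iff_pow_eq_one.mp (hc ▸ card_cj g H ▸ Subgroup.orderOf_dvd_natCard _ hz)
  have hTI : ∀ g : PSL, H ⊓ cj g H ≠ ⊥ → cj g H = H := by
    intro g h
    have hd := Subgroup.card_dvd_of_le (inf_le_left : H ⊓ cj g H ≤ H)
    rw [hc] at hd
    rcases (Nat.dvd_prime Nat.prime_three).mp hd with e | e
    · exact absurd (Subgroup.card_eq_one.mp e) h
    · have h1 := Subgroup.eq_of_le_of_card_ge (inf_le_left : H ⊓ cj g H ≤ H) (by rw [e, hc])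
      exact (Subgroup.eq_of_le_of_card_ge (inf_eq_left.mp h1) (by rw [card_cj])).symm
  refine binary_of_TI hTI fun g x hx hx1 y hy hy1 ⟨k, hk⟩ => hTI g fun e => hy1 ?_
  suffices hyH : y ∈ H by
    have : y ∈ H ⊓ cj g H := ⟨hyH, hy⟩
    rwa [e, Subgroup.mem_bot] at this
  have ex := hcube 1 x (by rw [cj_one]; exact hx)
  have ey := hcube g y hy
  have exy := hcube k _ hk
  by_cases hxy : x * y = 1
  · rw [eq_inv_of_mul_eq_one_right hxy]; exact inv_mem hx
  obtain ⟨A, rfl⟩ := mk_surj x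
  obtain ⟨B, rfl⟩ := mk_surj y
  have tA := trace_one_of_cube hx1 ex
  have tB := trace_one_of_cube hy1 ey
  have tAB := trace_one_of_cube (A := A * B) (by rwa [map_mul]) (by rwa [map_mul])
  have tC : (A⁻¹ * B).1.trace = 0 := by
    rw [trace_comm', trace_mul_inv, tA, tB, trace_comm', tAB]; ring
  by_cases hd : mk (A⁻¹ * B) = 1
  · rw [map_mul, map_inv, inv_mul_eq_one] at hd
    rwa [← hd]
  exfalso
  have hd2 : mk (A⁻¹ * B) ^ 2 = 1 := sq_eq_one_of_trace tC
  refine hx1 (not_three_mem_bor ha hq (orderOf_eq_prime hd2 hd) ((mem_bor (psl 2) (orderOf_eq_prime hd2 hd)).mpr ?_) ex)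
  set x := mk A
  set y := mk B
  rw [map_mul, map_inv] at hd2 ⊢
  show (x * (x⁻¹ * y) * x⁻¹) * (x⁻¹ * y) = (x⁻¹ * y) * (x * (x⁻¹ * y) * x⁻¹)
  have ex' : x⁻¹ = x * x := inv_eq_of_mul_eq_one_right (by rw [← mul_assoc]; simpa [pow_succ] using ex)
  have ey' : y⁻¹ = y * y := inv_eq_of_mul_eq_one_right (by rw [← mul_assoc]; simpa [pow_succ] using ey)
  calc (x * (x⁻¹ * y) * x⁻¹) * (x⁻¹ * y) = y * (x⁻¹ * x⁻¹) * y := by group
    _ = y * x * y := by
        rw [show x⁻¹ * x⁻¹ = x by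
          rw [← _root_.mul_inv_rev, ← ex', inv_inv]]
    _ = x⁻¹ * (x * y) ^ 3 * y⁻¹ * x⁻¹ := by simp only [pow_succ, pow_zero, one_mul]; group
    _ = x⁻¹ * y⁻¹ * x⁻¹ := by rw [exy, mul_one]
    _ = (x⁻¹ * y) * (x * (x⁻¹ * y) * x⁻¹) := by rw [ey']; group

end CfsgLib.PSL2Binary
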