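/-
Odd characteristic: only regular binary actions.
-/
import Cfsg.Agent.Lib.PSL2Binary.Partner
import Mathlib.GroupTheory.SpecificGroups.Alternating.Simple

set_option autoImplicit false

namespace CfsgLib.PSL2Binary

open Matrix
open CfsgLib.BinaryCosets
open CfsgLib.PSL2 (mk)
open CfsgLib.Dickson (up lo)
open CfsgLib.DicksonFull

theorem a4_comm : ∀ a b : alternatingGroup (Fin 4), (a * b * a⁻¹ * b⁻¹) ^ 2 = 1 := by decide +kernel

theorem s4_comm : ∀ a b : Equiv.Perm (Fin 4), a ^ 3 = 1 → b ^ 3 = 1 → (a * b * a⁻¹ * b⁻¹) ^ 2 = 1 := by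
  decide +kernel

theorem comm_sq_of_iso {G M : Type*} [Group G] [Group M] {L : Subgroup G} (e : L ≃* M) {x b : G}
    (hx : x ∈ L) (hb : b ∈ L) (h : (e ⟨x, hx⟩ * e ⟨b, hb⟩ * (e ⟨x, hx⟩)⁻¹ * (e ⟨b, hb⟩)⁻¹) ^ 2 = 1) :
    (x * b * x⁻¹ * b⁻¹) ^ 2 = 1 := by
  have h' : e ((⟨x, hx⟩ * ⟨b, hb⟩ * ⟨x, hx⟩⁻¹ * ⟨b, hb⟩⁻¹) ^ 2) = 1 := by
    simpa only [map_pow, map_mul, map_inv] using h
  simpa using congrArg Subtype.val (e.map_eq_one_iff.mp h')

theorem pow_of_iso {G M : Type*} [Group G] [Group M] {L : Subgroup G} (e : L ≃* M) {x : G}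
    (hx : x ∈ L) {n : ℕ} : (e ⟨x, hx⟩) ^ n = 1 ↔ x ^ n = 1 := by
  rw [← map_pow, e.map_eq_one_iff, Subtype.ext_iff]
  simp

variable {F : Type*} [Field F] [Fintype F] (p : ℕ) [Fact p.Prime] [CharP F p]

local notation "SL" => Matrix.SpecialLinearGroup (Fin 2) F
local notation "PSL" => Matrix.ProjectiveSpecialLinearGroup (Fin 2) F
local notation "q" => Fintype.card F

variable (h4 : 4 ≤ Fintype.card F) (h2 : (2 : F) ≠ 0)
  {H P : Subgroup (Matrix.ProjectiveSpecialLinearGroup (Fin 2) F)} (hH : H ≠ ⊤) (hB : Binary H)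
  (hP : Min H P)

include h2 p in
theorem odd_card : q % 2 = 1 ∧ Nat.gcd 2 (q - 1) = 2 := by
  rcases gcd_cases (F := F) p with ⟨-, h⟩ | ⟨h, h'⟩
  · exfalso
    apply h2
    have : ringChar F = 2 := FiniteField.even_card_iff_char_two.mpr h
    have := (ringChar.eq_iff).mp this
    exact_mod_cast CharP.cast_eq_zero F 2
  · exact ⟨h', h⟩

include h4 h2 hH hB hP in
theorem no_unipotent {x : PSL} (hx : x ∈ P) : orderOf x ≠ p := by
  intro hxp
  obtain ⟨g, a, ha, e⟩ := exists_conj_up p hxp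
  have hQ := hP.conj g⁻¹
  have hu : mk (up a) ∈ cj g⁻¹ P := mem_cj.mpr (by rw [← e]; simpa [mul_assoc] using hx)
  have hop : orderOf (mk (up a)) = p := order_p_mk_up p ha
  have hN := norm_le_bor p h4 hH hQ hop hu
  have hu' : (mk (up a))⁻¹ ∈ cj g⁻¹ P := inv_mem hu
  let M : SL := ⟨!![0, a / 2; -(2 / a), 0], by rw [Matrix.det_fin_two_of]; field_simp; ring⟩
  have e1 : mk M * (mk (up a))⁻¹ * (mk M)⁻¹ = mk (lo (4 / a)) := by
    rw [mul_inv_eq_iff_eq_mul, ← map_inv, ← map_mul, ← map_mul]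
    congr 1
    obtain ⟨i00, i01, i10, i11⟩ := Dickson.inv_entries (up a)
    apply Dickson.ext_entries <;>
      simp only [Dickson.mul_entry, i00, i01, i10, i11] <;> simp [M] <;> field_simp <;> ring
  have e2 : mk (lo (-(2 / a))) * (mk (up a))⁻¹ * (mk (lo (-(2 / a))))⁻¹ = (mk (lo (4 / a)))⁻¹ * mk (up a) := by
    rw [mul_inv_eq_iff_eq_mul, ← map_inv, ← map_inv, ← map_mul, ← map_mul, ← map_mul,
      ← mk_neg ((lo (4 / a))⁻¹ * up a * lo (-(2 / a)))]
    congr 1
    obtain ⟨i00, i01, i10, i11⟩ := Dickson.inv_entries (lo (4 / a))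
    obtain ⟨j00, j01, j10, j11⟩ := Dickson.inv_entries (up a)
    apply Dickson.ext_entries <;>
      simp only [Dickson.mul_entry, Matrix.SpecialLinearGroup.coe_neg, Matrix.neg_apply, i00, i01, i10, i11, j00, j01, j10, j11] <;>
      simp <;> field_simp <;> ring
  have hb : mk (lo (4 / a)) ∈ cj g⁻¹ P := hQ.tri hB hu
    (fun h => (Fact.out : p.Prime).ne_one (by rw [← hop, h, orderOf_one]))
    (mem_cj_of_conj hu' e1) (mem_cj_of_conj hu' e2)
  have := (mem_bor_up p ha).mp (hN (Subgroup.le_normalizer hb))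
  have h40 : (4 : F) / a ≠ 0 :=
    div_ne_zero (by rw [show (4 : F) = 2 * 2 by norm_num]; exact mul_ne_zero h2 h2) ha
  exact h40 (by simpa using this)

include h2 hB hP in
/-- An involution brings the normaliser of its torus. -/
theorem norm_T_le {y : PSL} (hy : SS p y) (hy2 : y ^ 2 = 1) (hyP : y ∈ P) :
    Subgroup.normalizer ((psl p).T y : Set PSL) ≤ P := by
  obtain ⟨A, rfl⟩ := mk_surj y
  have hA : A.1.trace = 0 := trace_eq_zero_of_sq hy.1 hy2
  have hA4 : A.1.trace ^ 2 ≠ 4 := SS.trace p hy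
  have hout : ∀ g ∈ Subgroup.normalizer ((psl p).T (mk A) : Set PSL), g ∉ (psl p).T (mk A) → g ∈ P := by
    intro g hg hgT
    have hgy : mk A * g ∈ Subgroup.normalizer ((psl p).T (mk A) : Set PSL) :=
      mul_mem (Subgroup.le_normalizer ((psl p).mem_T _ hy)) hg
    have hgyT : mk A * g ∉ (psl p).T (mk A) := fun h => hgT (by
      simpa using mul_mem (inv_mem ((psl p).mem_T _ hy)) h)
    have hcj : ∀ z : PSL, z ^ 2 = 1 → z ≠ 1 → ∃ k, z ∈ cj k P := by
      intro z hz hz1
      obtain ⟨B, rfl⟩ := mk_surj z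
      obtain ⟨k, hk⟩ := conj_of_trace_sq (A := A) (B := B) hA4 (by
        rw [trace_eq_zero_of_sq hz1 hz, hA])
      exact ⟨k, mem_cj_of_conj hyP hk⟩
    have hg2 := inverter_sq (psl p) hy ((mem_norm_iff hy).mp hg) hgT
    have hgy2 := inverter_sq (psl p) hy ((mem_norm_iff hy).mp hgy) hgyT
    obtain ⟨k1, h1⟩ := hcj g hg2 fun e => hgT (e ▸ one_mem _)
    obtain ⟨k2, h2'⟩ := hcj (mk A * g) hgy2 fun e => hgyT (e ▸ one_mem _)
    refine hP.tri hB hyP hy.1 h1 (k := k2) ?_
    have eA : (mk A)⁻¹ = mk A := inv_eq_of_mul_eq_one_right (by rw [← pow_two]; exact hy2)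
    have := (cj k2 P).inv_mem h2'
    rwa [_root_.mul_inv_rev, eA] at this
  intro g hg
  by_cases hgT : g ∈ (psl p).T (mk A)
  · obtain ⟨h, hhT, hh⟩ := exists_inverter p hy
    have hhN : h ∈ Subgroup.normalizer ((psl p).T (mk A) : Set PSL) :=
      mem_norm hy (hh ▸ inv_mem ((psl p).mem_T _ hy))
    have h1 := hout (g * h) (mul_mem hg hhN) fun h' => hhT (by simpa using mul_mem (inv_mem hgT) h')
    simpa using mul_mem h1 (P.inv_mem (hout h hhN hhT))
  · exact hout g hg hgT

include h4 h2 hH hB hP in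
theorem no_big (h5 : q ≠ 5) {x : PSL} (hx : SS p x) (hx2 : x ^ 2 ≠ 1) (hxP : x ∈ P) : False := by
  obtain ⟨A, rfl⟩ := mk_surj x
  have ht : A.1.trace ≠ 0 := fun e => hx2 (sq_eq_one_of_trace e)
  obtain ⟨hexc, hn3, hTN, b, hbP, ⟨g, hg⟩, hnc⟩ :=
    exc_of_min p h4 hH hB hP hx hxP ht fun e => absurd e h2
  set x := mk A with hxdef
  set L := Subgroup.normalizer (P : Set PSL) with hL
  obtain ⟨hodd, hgcd⟩ := odd_card p h2
  have hG := card_psl (F := F)
  rw [hgcd] at hG
  have hcT := card_T p h4 hx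
  rw [hgcd] at hcT
  obtain ⟨t, htT, htn⟩ := exists_generator p hx
  set n := Nat.card ((psl p).T x) with hn
  have htL : t ∈ L := hTN htT
  have hxn : x ^ n = 1 := orderOf_dvd_iff_pow_eq_one.mp (Subgroup.orderOf_dvd_natCard _ ((psl p).mem_T _ hx))
  have hxL : x ∈ L := Subgroup.le_normalizer hxP
  have hbL : b ∈ L := Subgroup.le_normalizer hbP
  have hbk : ∀ k : ℕ, x ^ k = 1 → b ^ k = 1 := fun k hk => by rw [← hg, conj_pow, hk, mul_one, mul_inv_cancel]
  have hsq := hP.card_sq_le ((haveI := PSL2Max.isSimple (F := F) h4; hP.norm_ne_top hH))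
  -- an involution brings eight elements
  have hinv : q ≤ 9 → ∀ y ∈ P, y ^ 2 = 1 → y ≠ 1 → SS p y ∧
      Subgroup.normalizer ((psl p).T y : Set PSL) ≤ P ∧
      Nat.card (Subgroup.normalizer ((psl p).T y : Set PSL)) = 8 := by
    intro hq9 y hyP hy2 hy1
    have hyS : SS p y := ((psl (F := F) p).order_cases y hy1).resolve_right
      (no_unipotent p h4 h2 hH hB hP hyP)
    refine ⟨hyS, norm_T_le p h2 hB hP hyS hy2 hyP, ?_⟩
    have hc := card_T p h4 hyS
    rw [hgcd] at hc
    have heven : 2 ∣ Nat.card ((psl p).T y) := by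
      have := Subgroup.orderOf_dvd_natCard _ ((psl p).mem_T _ hyS)
      rwa [orderOf_eq_prime hy2 hy1] at this
    rw [card_norm p hyS]
    omega
  have hcomm_mem : x * b * x⁻¹ * b⁻¹ ∈ P :=
    mul_mem (mul_mem (mul_mem hxP hbP) (inv_mem hxP)) (inv_mem hbP)
  have hcomm_ne : x * b * x⁻¹ * b⁻¹ ≠ 1 := fun e => hnc (by
    rw [mul_inv_eq_one, mul_inv_eq_iff_eq_mul] at e; exact e)
  have hle24 : q ∈ ({7, 9} : Finset ℕ) → Nat.card L ≤ 24 → ∀ y ∈ P, y ^ 2 = 1 → y ≠ 1 → False := by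
    intro hq hL24 y hyP hy2 hy1
    simp only [Finset.mem_insert, Finset.mem_singleton] at hq
    obtain ⟨hyS, hNP, hN8⟩ := hinv (by omega) y hyP hy2 hy1
    have h8 : 8 ∣ Nat.card P := hN8 ▸ Subgroup.card_dvd_of_le hNP
    have hPL : Nat.card P ≤ 24 := (Nat.le_of_dvd Nat.card_pos
      (Subgroup.card_dvd_of_le Subgroup.le_normalizer)).trans hL24
    have hd := Subgroup.card_subgroup_dvd_card P
    have hP8 : Nat.card P = 8 := by
      have : Nat.card PSL = 168 ∨ Nat.card PSL = 360 := by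
        rcases hq with e | e <;> rw [e] at hG <;> omega
      obtain ⟨c, hc⟩ := h8
      rcases this with e | e <;> rw [e] at hd hsq <;>
      · have hc3 : c ≤ 3 := by omega
        have := Nat.card_pos (α := P)
        interval_cases c <;> simp_all
    have hPe : Subgroup.normalizer ((psl p).T y : Set PSL) = P :=
      Subgroup.eq_of_le_of_card_ge hNP (by rw [hN8, hP8])
    have m1 := mem_T_of_norm p hyS (hPe ▸ hxP) hx2
    have m2 := mem_T_of_norm p hyS (hPe ▸ hbP) (fun e => hx2 (by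
      rw [← hg, conj_pow, mul_inv_eq_one, mul_eq_left] at e; exact e))
    exact hnc (tor_comm hyS m1 m2)
  have hn_q : ∀ m : ℕ, n ≤ m → q ≤ 2 * m + 1 := fun m hm => by omega
  rcases hexc with ⟨⟨e⟩⟩ | ⟨⟨e⟩⟩ | ⟨⟨e⟩⟩ | ⟨hq, hcard⟩
  · have hn3' : n ≤ 3 := by
      rcases a4_orders (e ⟨t, htL⟩) with h | h <;> rw [pow_of_iso e htL] at h <;>
        have := Nat.le_of_dvd (by norm_num) (orderOf_dvd_of_pow_eq_one h) <;> omega
    have := hn_q 3 hn3'
    obtain ⟨-, hNP, hN8⟩ := hinv (by omega) _ hcomm_mem (comm_sq_of_iso e hxL hbL (a4_comm _ _)) hcomm_ne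
    have h12 : Nat.card L = 12 := by
      rw [Nat.card_congr e.toEquiv, Nat.card_eq_fintype_card]; decide
    have := h12 ▸ hN8 ▸ Subgroup.card_dvd_of_le (hNP.trans Subgroup.le_normalizer)
    omega
  · have hn4 : n ≤ 4 := by
      rcases s4_orders (e ⟨t, htL⟩) with h | h <;> rw [pow_of_iso e htL] at h <;>
        have := Nat.le_of_dvd (by norm_num) (orderOf_dvd_of_pow_eq_one h) <;> omega
    have := hn_q 4 hn4
    have hq : q ∈ ({7, 9} : Finset ℕ) := by simp only [Finset.mem_insert, Finset.mem_singleton]; omega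
    have h24 : Nat.card L ≤ 24 := by
      rw [Nat.card_congr e.toEquiv, Nat.card_perm, Nat.card_fin]; decide
    rcases s4_orders (e ⟨x, hxL⟩) with h | h <;> rw [pow_of_iso e hxL] at h
    · exact hle24 hq h24 _ hcomm_mem (comm_sq_of_iso e hxL hbL (s4_comm _ _
        ((pow_of_iso e hxL).mpr h) ((pow_of_iso e hbL).mpr (hbk 3 h)))) hcomm_ne
    · exact hle24 hq h24 (x ^ 2) (pow_mem hxP 2) (by rw [← pow_mul]; exact h) hx2
  · have hn5 : n ≤ 5 := by
      rcases a5_orders (e ⟨t, htL⟩) with h | h | h <;> rw [pow_of_iso e htL] at h <;>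
        have := Nat.le_of_dvd (by norm_num) (orderOf_dvd_of_pow_eq_one h) <;> omega
    have hq11 : q ≤ 11 := by have := hn_q 5 hn5; omega
    have := alternatingGroup.isSimpleGroup (α := Fin 5) (by simp)
    have : Nontrivial L := e.toEquiv.nontrivial
    haveI : IsSimpleGroup L := IsSimpleGroup.isSimpleGroup_of_surjective e.symm.toMonoidHom e.symm.surjective
    rcases (Subgroup.normal_in_normalizer (H := P)).eq_bot_or_eq_top with h | h
    · exact hP.ne_bot (eq_bot_iff.mpr fun z hz => by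
        have hmem : (⟨z, Subgroup.le_normalizer hz⟩ : L) ∈ P.subgroupOf L := hz
        rw [h, Subgroup.mem_bot] at hmem
        exact Subgroup.mem_bot.mpr (congrArg Subtype.val hmem))
    · have hPL : P = L := le_antisymm Subgroup.le_normalizer (Subgroup.subgroupOf_eq_top.mp h)
      rw [hPL, Nat.card_congr e.toEquiv, nat_card_alternatingGroup, Nat.card_fin] at hsq
      norm_num at hsq
      have : Nat.card PSL ≤ 660 := by
        have : q * (q ^ 2 - 1) ≤ 11 * (11 ^ 2 - 1) :=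
          Nat.mul_le_mul hq11 (Nat.sub_le_sub_right (Nat.pow_le_pow_left hq11 2) 1)
        omega
      omega
  · have hn45 : n = 4 ∨ n = 5 := by omega
    rcases hn45 with e4 | e5
    · exact hle24 (by simp [hq]) hcard (x ^ 2) (pow_mem hxP 2) (by
        rw [← pow_mul, show 2 * 2 = n by omega]; exact hxn) hx2
    · have h5 : orderOf x = 5 := by
        have : Fact (Nat.Prime 5) := ⟨by norm_num⟩
        exact orderOf_eq_prime (by rw [← e5]; exact hxn) hx.1
      have hb5 : orderOf b = 5 := by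
        rw [← hg, show g * x * g⁻¹ = MulAut.conj g x from rfl, (MulAut.conj g).orderOf_eq, h5]
      have hinj : Function.Injective (fun z : Subgroup.zpowers x × Subgroup.zpowers b =>
          (⟨(z.1 : PSL) * z.2, mul_mem (Subgroup.zpowers_le.mpr hxL z.1.2)
            (Subgroup.zpowers_le.mpr hbL z.2.2)⟩ : L)) := by
        rintro ⟨a, c⟩ ⟨a', c'⟩ e'
        have e'' : (a : PSL) * c = a' * c' := congrArg Subtype.val e'
        have hw : (a' : PSL)⁻¹ * a ∈ Subgroup.zpowers x ⊓ Subgroup.zpowers b := by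
          refine Subgroup.mem_inf.mpr ⟨mul_mem (inv_mem a'.2) a.2, ?_⟩
          rw [show (a' : PSL)⁻¹ * a = c' * (c : PSL)⁻¹ by
            rw [eq_mul_inv_iff_mul_eq, mul_assoc, e'', inv_mul_cancel_left]]
          exact mul_mem c'.2 (inv_mem c.2)
        have htriv : Subgroup.zpowers x ⊓ Subgroup.zpowers b = ⊥ := by
          by_contra hne
          have hd := Subgroup.card_dvd_of_le (inf_le_left : Subgroup.zpowers x ⊓ Subgroup.zpowers b ≤ _)
          rw [Nat.card_zpowers, h5] at hd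
          rcases (Nat.dvd_prime (by norm_num)).mp hd with h | h
          · exact hne (Subgroup.card_eq_one.mp h)
          · have h1 := Subgroup.eq_of_le_of_card_ge
              (inf_le_left : Subgroup.zpowers x ⊓ Subgroup.zpowers b ≤ _) (by rw [h, Nat.card_zpowers, h5])
            have hxb : x ∈ Subgroup.zpowers b :=
              inf_le_right (a := Subgroup.zpowers x) (h1.symm ▸ Subgroup.mem_zpowers x)
            obtain ⟨k, hk⟩ := Subgroup.mem_zpowers_iff.mp hxb
            have hk2 := (Commute.refl b).zpow_left k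
            rw [hk] at hk2
            exact hnc hk2
        rw [htriv, Subgroup.mem_bot, inv_mul_eq_one] at hw
        rw [hw] at e''
        exact Prod.ext (Subtype.ext hw.symm) (Subtype.ext (mul_left_cancel e''))
      have h25 := Nat.card_le_card_of_injective _ hinj
      rw [Nat.card_prod, Nat.card_zpowers, Nat.card_zpowers, h5, hb5] at h25
      omega

include p h4 h2 hH hB hP in
theorem no_min (h5 : q ≠ 5) : False := by
  obtain ⟨x, hxP, hx1⟩ : ∃ x ∈ P, x ≠ 1 := by
    by_contra h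
    push Not at h
    exact hP.ne_bot (eq_bot_iff.mpr fun z hz => Subgroup.mem_bot.mpr (h z hz))
  rcases (psl (F := F) p).order_cases x hx1 with hs | hp
  · by_cases hx2 : x ^ 2 = 1
    · obtain ⟨t, htT, htn⟩ := exists_generator p hs
      have hc := card_T p h4 hs
      obtain ⟨hodd, hgcd⟩ := odd_card p h2
      rw [hgcd] at hc
      have hn3 : 3 ≤ orderOf t := by omega
      have ht1 : t ≠ 1 := fun e => by rw [e, orderOf_one] at hn3; omega
      refine no_big p h4 h2 hH hB hP h5 ((psl (F := F) p).T_eq x t hs htT ht1).1 (fun e => ?_)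
        (norm_T_le p h2 hB hP hs hx2 hxP (Subgroup.le_normalizer htT))
      have := Nat.le_of_dvd (by norm_num) (orderOf_dvd_of_pow_eq_one e)
      omega
    · exact no_big p h4 h2 hH hB hP h5 hs hx2 hxP
  · exact no_unipotent p h4 h2 hH hB hP hxP hp

end CfsgLib.PSL2Binary
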